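import Mathlib
import Cfsg.Prelude.Def_ChevStructure
import Cfsg.Prelude.Def_LieChev
import Cfsg.Agent.Lib.Helper5.ChevW0Def

set_option autoImplicit false

/-!
The twelve elements of the Weyl group of type `G₂`, as tables of their action on the roots.
-/

namespace Cfsg.Agent.Lib.Helper5.G2Cent

open Cfsg Cfsg.Lie Cfsg.Agent.Lib.Helper5.ChevSym

/-- the tables `r ↦ w(r)` of the twelve elements of `W(G₂)` -/
def wTabs : List (List ℕ) :=
  [[0, 1, 2, 3, 4, 5, 6, 7, 8, 9, 10, 11],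
   [0, 5, 3, 2, 7, 1, 10, 4, 9, 8, 6, 11],
   [1, 0, 2, 4, 3, 6, 5, 8, 7, 9, 11, 10],
   [1, 6, 4, 2, 8, 0, 11, 3, 9, 7, 5, 10],
   [5, 0, 3, 7, 2, 10, 1, 9, 4, 8, 11, 6],
   [5, 10, 7, 3, 9, 0, 11, 2, 8, 4, 1, 6],
   [6, 1, 4, 8, 2, 11, 0, 9, 3, 7, 10, 5],
   [6, 11, 8, 4, 9, 1, 10, 2, 7, 3, 0, 5],
   [10, 5, 7, 9, 3, 11, 0, 8, 2, 4, 6, 1],
   [10, 11, 9, 7, 8, 5, 6, 3, 4, 2, 0, 1],
   [11, 6, 8, 9, 4, 10, 1, 7, 2, 3, 5, 0],
   [11, 10, 9, 8, 7, 6, 5, 4, 3, 2, 1, 0]]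

/-- the tables are closed under the fundamental reflections -/
def chkTabs : Bool :=
  wTabs.all fun T => (List.range 2).all fun i =>
    wTabs.any fun T' => (List.range 12).all fun r =>
      Nat.beq (chevG2.reflectRoot i (T.getD r 0)) (T'.getD r 0)

theorem chkTabs_true : chkTabs = true := by decide +kernel

theorem wAct_mem_wTabs (w : List ℕ) (hw : ∀ i ∈ w, i < chevG2.rank) :
    ∃ T ∈ wTabs, ∀ r < 12, wAct chevG2 w r = T.getD r 0 := by
  induction w with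
  | nil =>
    refine ⟨[0, 1, 2, 3, 4, 5, 6, 7, 8, 9, 10, 11], by simp [wTabs], ?_⟩
    intro r hr
    show r = _
    interval_cases r <;> rfl
  | cons i w ih =>
    obtain ⟨T, hT, hTr⟩ := ih (fun j hj => hw j (List.mem_cons_of_mem _ hj))
    have hi : i < 2 := hw i (List.mem_cons_self ..)
    have h := chkTabs_true
    unfold chkTabs at h
    rw [List.all_eq_true] at h
    have h1 := h T hT
    rw [List.all_eq_true] at h1
    have h2 := h1 i (List.mem_range.2 hi)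
    rw [List.any_eq_true] at h2
    obtain ⟨T', hT', h3⟩ := h2
    rw [List.all_eq_true] at h3
    refine ⟨T', hT', fun r hr => ?_⟩
    have h4 := h3 r (List.mem_range.2 hr)
    have h5 : chevG2.reflectRoot i (T.getD r 0) = T'.getD r 0 := Nat.eq_of_beq_eq_true h4
    show chevG2.reflectRoot i (wAct chevG2 w r) = _
    rw [hTr r hr, h5]

end Cfsg.Agent.Lib.Helper5.G2Cent
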