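import Mathlib
import Cfsg.Prelude.Def_ChevStructure
import Cfsg.Prelude.Def_LieChev
import Cfsg.Agent.Lib.Helper5.G2Cent.Tab
import Cfsg.Agent.Lib.Helper5.RootCent.Main
import Cfsg.Agent.Lib.Helper5.ChevParaNorm
import Cfsg.Agent.Lib.Helper5.ChevBruhatNF
import Cfsg.Agent.Lib.Helper5.ChevOrdProd
import Cfsg.Agent.Lib.Helper5.FieldFix.PosList

set_option autoImplicit false

/-!
The centraliser of the short root element `x_{2a+b}(1)` of `G₂(F)` lies in the parabolic subgroup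
`P_b`.
-/

namespace Cfsg.Agent.Lib.Helper5.G2Cent

open Cfsg Cfsg.Lie Cfsg.Agent.Lib.Helper5.ChevSym Cfsg.Agent.Lib.Helper5.ChevStruct
  Cfsg.Agent.Lib.Helper5.FieldFix

variable {F : Type*} [Field F]

theorem memG2 : chevG2 ∈ Seven := List.mem_cons_self ..

theorem nrootsG2 : chevG2.nroots = 12 := rfl

theorem xGL_zero_g2 (r : ℕ) : xGL chevG2 memG2 r (0 : F) = 1 := by
  apply Units.ext
  rw [xGL_val, x_at_zero, Units.val_one]

theorem isPos_iff (r : ℕ) : chevG2.IsPosRoot r ↔ 6 ≤ r ∧ r < 12 :=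
  isPosRoot_iff chevG2 memG2 r

/-- an element of `⟨X_r : r ∈ S⟩`, `S` a set of positive roots made negative by `w`, which `n_w`
conjugates into `U`, is trivial -/
theorem eq_one_of_conj_mem_pos (D : ChevalleyDatum) (hD : D ∈ Seven) (w : List ℕ)
    (hw : ∀ i ∈ w, i < D.rank) (S : Set ℕ)
    (hS : ∀ r ∈ S, D.IsPosRoot r ∧ ¬ D.IsPosRoot (wAct D w r))
    (a : GL D.Idx F) (ha : a ∈ rootSetSub D F S)
    (hU : wGL D hD w * a * (wGL D hD w)⁻¹ ∈ D.posUnipotent F) : a = 1 := by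
  have h1 : a ∈ unegSub D F w := rootSetSub_mono D (fun r hr => hS r hr) ha
  have h2 := conj_unegOf_le_neg D _ a (unegSub_le_unegOf D hD w hw h1)
  have h3 : wGL D hD w * a * (wGL D hD w)⁻¹ ∈ D.borelSubgroup F ⊓ D.negUnipotent F :=
    ⟨pos_le_borel D hU, h2⟩
  rw [borel_inf_neg D hD, Subgroup.mem_bot] at h3
  have e : a = (wGL D hD w)⁻¹ * (wGL D hD w * a * (wGL D hD w)⁻¹) * wGL D hD w := by group
  rw [e, h3]
  group

/-- `X_{2a+b} X_{3a+b} X_{3a+2b}` -/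
def V9 (F : Type*) [Field F] : Subgroup (GL chevG2.Idx F) :=
  rootSetSub chevG2 F {s | s ∈ [9, 10, 11]}

/-- `X_{3a+b} X_{3a+2b}` -/
def Z9 (F : Type*) [Field F] : Subgroup (GL chevG2.Idx F) :=
  rootSetSub chevG2 F {s | s ∈ [10, 11]}

theorem V9_le_pos : V9 F ≤ chevG2.posUnipotent F := by
  unfold V9 rootSetSub ChevalleyDatum.posUnipotent
  apply Subgroup.closure_mono
  rintro g ⟨s, t, hs, hg⟩
  refine ⟨s, t, ?_, hg⟩
  rw [isPos_iff]
  simp only [Set.mem_ofPred_eq, List.mem_cons, List.not_mem_nil, or_false] at hs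
  omega

theorem borel_le_normalizer_of (L : List ℕ)
    (h : ∀ r ∈ [6, 7, 8, 9, 10, 11], r ∈ L ∨ ∀ s ∈ L, s < chevG2.nroots ∧ s ≠ r ∧
      s ≠ chevG2.neg r ∧ ∀ c ∈ chevG2.commTerms r s, c.1 ∈ L) :
    chevG2.borelSubgroup F ≤
      Subgroup.normalizer (rootSetSub chevG2 F {s | s ∈ L} : Set (GL chevG2.Idx F)) := by
  unfold ChevalleyDatum.borelSubgroup
  apply sup_le
  · unfold ChevalleyDatum.posUnipotent
    rw [Subgroup.closure_le]
    rintro g ⟨r, t, hr, hg⟩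
    have hr' := (isPos_iff r).1 hr
    have hrm : r ∈ [6, 7, 8, 9, 10, 11] := by
      simp only [List.mem_cons, List.not_mem_nil, or_false]
      omega
    rcases h r hrm with h1 | h1
    · apply Subgroup.le_normalizer
      exact Subgroup.subset_closure ⟨r, t, h1, hg⟩
    · exact rootSubgroup_le_normalizer_rootSetSub chevG2 memG2 _ r hr.1 h1
        (Subgroup.subset_closure ⟨t, hg⟩)
  · exact diagonal_le_normalizer_rootSetSub chevG2 memG2 _

theorem borel_le_normalizer_V9 :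
    chevG2.borelSubgroup F ≤ Subgroup.normalizer (V9 F : Set (GL chevG2.Idx F)) :=
  borel_le_normalizer_of [9, 10, 11] (by decide +kernel)

theorem borel_le_normalizer_Z9 :
    chevG2.borelSubgroup F ≤ Subgroup.normalizer (Z9 F : Set (GL chevG2.Idx F)) :=
  borel_le_normalizer_of [10, 11] (by decide +kernel)

/-- `x_{3a+b}` and `x_{3a+2b}` commute -/
theorem x10_comm_x11 (d e : F) :
    xGL chevG2 memG2 10 d * xGL chevG2 memG2 11 e = xGL chevG2 memG2 11 e * xGL chevG2 memG2 10 d := by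
  apply Units.ext
  rw [Units.val_mul, Units.val_mul, xGL_val, xGL_val]
  have h0 : chevG2.commTerms 11 10 = [] := by decide +kernel
  exact RootCent.x_comm_of_zero chevG2 memG2 11 10 (by decide) (by decide) (by decide) (by decide)
    (fun c hc => by rw [h0] at hc; simp at hc) e d

/-- the elements of `V9`, with the two long roots in either order -/
theorem V9_rep (l l' : ℕ) (hl : (l = 10 ∧ l' = 11) ∨ (l = 11 ∧ l' = 10))
    (y : GL chevG2.Idx F) (hy : y ∈ V9 F) :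
    ∃ c d e : F, y = xGL chevG2 memG2 9 c * xGL chevG2 memG2 l d * xGL chevG2 memG2 l' e := by
  obtain ⟨t, ht⟩ := exists_prodL chevG2 memG2 [9, 10, 11] (by decide +kernel) (by decide) y hy
  rw [prodL_cons, prodL_cons, prodL_cons, prodL_nil, mul_one] at ht
  rcases hl with ⟨rfl, rfl⟩ | ⟨rfl, rfl⟩
  · exact ⟨t 9, t 10, t 11, by rw [ht, mul_assoc]⟩
  · exact ⟨t 9, t 11, t 10, by rw [ht, mul_assoc, x10_comm_x11]⟩

theorem x_mem_Z9 (l : ℕ) (hl : l = 10 ∨ l = 11) (e : F) : xGL chevG2 memG2 l e ∈ Z9 F := by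
  apply xGL_mem_rootSetSub
  rcases hl with rfl | rfl <;> simp

/-- conjugation of a root element by `n_w` -/
theorem wGL_conj_x (w : List ℕ) (hw : ∀ i ∈ w, i < chevG2.rank) (r : ℕ) (hr : r < 12) :
    ∃ ε : F, (ε = 1 ∨ ε = -1) ∧ ∀ t : F,
      wGL chevG2 memG2 w * xGL chevG2 memG2 r t * (wGL chevG2 memG2 w)⁻¹
        = xGL chevG2 memG2 (wAct chevG2 w r) (ε * t) := by
  obtain ⟨ε, hε, h⟩ := wGL_conj (F := F) chevG2 memG2 w hw r hr
  refine ⟨ε, hε, fun t => ?_⟩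
  apply Units.ext
  rw [h t _ (xGL_val chevG2 memG2 r t), xGL_val]

theorem eps_ne_zero (ε : F) (hε : ε = 1 ∨ ε = -1) : ε ≠ 0 := by
  rcases hε with rfl | rfl
  · exact one_ne_zero
  · exact neg_ne_zero.2 one_ne_zero

theorem xGL_pos_mem (r : ℕ) (hr : 6 ≤ r ∧ r < 12) (t : F) :
    xGL chevG2 memG2 r t ∈ chevG2.posUnipotent F :=
  Subgroup.subset_closure ⟨r, t, (isPos_iff r).2 hr, xGL_val chevG2 memG2 r t⟩


theorem conj_mul3 (n a b c : GL chevG2.Idx F) :
    n * (a * b * c) * n⁻¹ = (n * a * n⁻¹) * (n * b * n⁻¹) * (n * c * n⁻¹) := by group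

theorem conj_mul2 (n a b : GL chevG2.Idx F) :
    n * (a * b) * n⁻¹ = (n * a * n⁻¹) * (n * b * n⁻¹) := by group

section bad

variable (w : List ℕ) (hw : ∀ i ∈ w, i < chevG2.rank) (y : GL chevG2.Idx F) (hy : y ∈ V9 F)
  (hyZ : y ∉ Z9 F)
  (hM : wGL chevG2 memG2 w * y * (wGL chevG2 memG2 w)⁻¹ ∈ V9 F)

include hw hy hyZ hM

/-- all three roots become negative -/
theorem bad_A (h9 : wAct chevG2 w 9 < 6) (h10 : wAct chevG2 w 10 < 6)
    (h11 : wAct chevG2 w 11 < 6) : False := by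
  have h1 : y = 1 := eq_one_of_conj_mem_pos chevG2 memG2 w hw {s | s ∈ [9, 10, 11]} (by
    intro r hr
    simp only [Set.mem_ofPred_eq, List.mem_cons, List.not_mem_nil, or_false] at hr
    rw [isPos_iff, isPos_iff]
    rcases hr with rfl | rfl | rfl <;> omega) y hy (V9_le_pos hM)
  apply hyZ
  rw [h1]
  exact one_mem _

/-- the short root and one long root become negative -/
theorem bad_B (l l' : ℕ) (hll : (l = 10 ∧ l' = 11) ∨ (l = 11 ∧ l' = 10))
    (h9 : wAct chevG2 w 9 < 6) (hl : wAct chevG2 w l < 6) (hl' : 6 ≤ wAct chevG2 w l') :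
    False := by
  obtain ⟨c, d, e, rfl⟩ := V9_rep l l' hll y hy
  have hl12 : l < 12 ∧ l' < 12 ∧ 6 ≤ l ∧ (l' = 10 ∨ l' = 11) := by
    rcases hll with ⟨rfl, rfl⟩ | ⟨rfl, rfl⟩ <;> simp
  obtain ⟨ε, hε, hc⟩ := wGL_conj_x (F := F) w hw l' hl12.2.1
  have hlt := wAct_lt chevG2 memG2 w hw l' hl12.2.1
  have h1 : wGL chevG2 memG2 w * xGL chevG2 memG2 l' e * (wGL chevG2 memG2 w)⁻¹
      ∈ chevG2.posUnipotent F := by
    rw [hc]
    exact xGL_pos_mem _ ⟨hl', hlt⟩ _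
  have h2 : wGL chevG2 memG2 w * (xGL chevG2 memG2 9 c * xGL chevG2 memG2 l d)
      * (wGL chevG2 memG2 w)⁻¹ ∈ chevG2.posUnipotent F := by
    have e1 : wGL chevG2 memG2 w * (xGL chevG2 memG2 9 c * xGL chevG2 memG2 l d)
        * (wGL chevG2 memG2 w)⁻¹
        = (wGL chevG2 memG2 w * (xGL chevG2 memG2 9 c * xGL chevG2 memG2 l d
            * xGL chevG2 memG2 l' e) * (wGL chevG2 memG2 w)⁻¹)
          * (wGL chevG2 memG2 w * xGL chevG2 memG2 l' e * (wGL chevG2 memG2 w)⁻¹)⁻¹ := by group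
    rw [e1]
    exact mul_mem (V9_le_pos hM) (inv_mem h1)
  have h3 : xGL chevG2 memG2 9 c * xGL chevG2 memG2 l d = 1 :=
    eq_one_of_conj_mem_pos chevG2 memG2 w hw {s | s = 9 ∨ s = l} (by
      intro r hr
      rw [isPos_iff, isPos_iff]
      rcases hr with rfl | rfl <;> omega) _
      (mul_mem (xGL_mem_rootSetSub chevG2 memG2 _ 9 (Or.inl rfl) c)
        (xGL_mem_rootSetSub chevG2 memG2 _ l (Or.inr rfl) d)) h2
  apply hyZ
  rw [h3, one_mul]
  exact x_mem_Z9 l' hl12.2.2.2 e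

variable [Fintype F]

/-- `2a+b ↦ a`, one long root becomes negative -/
theorem bad_C (l l' : ℕ) (hll : (l' = 10 ∧ l = 11) ∨ (l' = 11 ∧ l = 10))
    (h9 : wAct chevG2 w 9 = 7) (hl' : wAct chevG2 w l' = 10) (hl : wAct chevG2 w l < 6) :
    False := by
  obtain ⟨c, e, d, rfl⟩ := V9_rep l' l hll y hy
  have hl12 : l < 12 ∧ l' < 12 ∧ 6 ≤ l ∧ (l' = 10 ∨ l' = 11) := by
    rcases hll with ⟨rfl, rfl⟩ | ⟨rfl, rfl⟩ <;> simp
  obtain ⟨ε₁, hε₁, hc₁⟩ := wGL_conj_x (F := F) w hw 9 (by norm_num)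
  obtain ⟨ε₂, hε₂, hc₂⟩ := wGL_conj_x (F := F) w hw l' hl12.2.1
  have h1 : wGL chevG2 memG2 w * (xGL chevG2 memG2 9 c * xGL chevG2 memG2 l' e)
      * (wGL chevG2 memG2 w)⁻¹ = xGL chevG2 memG2 7 (ε₁ * c) * xGL chevG2 memG2 10 (ε₂ * e) := by
    rw [conj_mul2, hc₁, hc₂, h9, hl']
  have h1m : wGL chevG2 memG2 w * (xGL chevG2 memG2 9 c * xGL chevG2 memG2 l' e)
      * (wGL chevG2 memG2 w)⁻¹ ∈ chevG2.posUnipotent F := by
    rw [h1]
    exact mul_mem (xGL_pos_mem 7 (by norm_num) _) (xGL_pos_mem 10 (by norm_num) _)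
  have h2 : wGL chevG2 memG2 w * xGL chevG2 memG2 l d * (wGL chevG2 memG2 w)⁻¹
      ∈ chevG2.posUnipotent F := by
    have e1 : wGL chevG2 memG2 w * xGL chevG2 memG2 l d * (wGL chevG2 memG2 w)⁻¹
        = (wGL chevG2 memG2 w * (xGL chevG2 memG2 9 c * xGL chevG2 memG2 l' e)
            * (wGL chevG2 memG2 w)⁻¹)⁻¹
          * (wGL chevG2 memG2 w * (xGL chevG2 memG2 9 c * xGL chevG2 memG2 l' e
            * xGL chevG2 memG2 l d) * (wGL chevG2 memG2 w)⁻¹) := by group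
    rw [e1]
    exact mul_mem (inv_mem h1m) (V9_le_pos hM)
  have h3 : xGL chevG2 memG2 l d = 1 :=
    eq_one_of_conj_mem_pos chevG2 memG2 w hw {s | s = l} (by
      intro r hr
      rw [isPos_iff, isPos_iff]
      rcases hr with rfl
      omega) _ (xGL_mem_rootSetSub chevG2 memG2 {s | s = l} l rfl d) h2
  rw [h3, mul_one] at hM hyZ
  rw [h1] at hM
  obtain ⟨c', d', e', hrep⟩ := V9_rep 10 11 (Or.inl ⟨rfl, rfl⟩) _ hM
  set t : ℕ → F := fun r => if r = 7 then ε₁ * c else if r = 10 then ε₂ * e else 0 with ht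
  set t' : ℕ → F := fun r => if r = 9 then c' else if r = 10 then d' else if r = 11 then e' else 0
    with ht'
  have hu := prodL_unique chevG2 memG2 (posL chevG2) (posL_good chevG2 memG2) (posL_nodup _)
    (mem_posL chevG2 memG2) (posL_length _) t t' (by
      show prodL chevG2 memG2 [6, 7, 8, 9, 10, 11] t = prodL chevG2 memG2 [6, 7, 8, 9, 10, 11] t'
      simp only [prodL_cons, prodL_nil, mul_one]
      simp only [ht, ht']
      norm_num [xGL_zero_g2]
      rw [hrep, mul_assoc]) 7 (by decide)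
  simp only [ht, ht'] at hu
  norm_num at hu
  rcases hu with hu | hu
  · exact eps_ne_zero ε₁ hε₁ hu
  · apply hyZ
    rw [hu, xGL_zero_g2, one_mul]
    exact x_mem_Z9 l' hl12.2.2.2 e

/-- `2a+b ↦ a+b` -/
theorem bad_D (l l' : ℕ) (hll : (l = 10 ∧ l' = 11) ∨ (l = 11 ∧ l' = 10))
    (h9 : wAct chevG2 w 9 = 8) (hl : wAct chevG2 w l = 6) (hl' : wAct chevG2 w l' = 11) :
    False := by
  obtain ⟨c, d, e, rfl⟩ := V9_rep l l' hll y hy
  have hl12 : l < 12 ∧ l' < 12 ∧ (l = 10 ∨ l = 11) ∧ (l' = 10 ∨ l' = 11) := by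
    rcases hll with ⟨rfl, rfl⟩ | ⟨rfl, rfl⟩ <;> simp
  obtain ⟨ε₁, hε₁, hc₁⟩ := wGL_conj_x (F := F) w hw 9 (by norm_num)
  obtain ⟨ε₂, hε₂, hc₂⟩ := wGL_conj_x (F := F) w hw l hl12.1
  obtain ⟨ε₃, hε₃, hc₃⟩ := wGL_conj_x (F := F) w hw l' hl12.2.1
  rw [conj_mul3, hc₁, hc₂, hc₃, h9, hl, hl'] at hM
  obtain ⟨c', d', e', hrep⟩ := V9_rep 10 11 (Or.inl ⟨rfl, rfl⟩) _ hM
  set t : ℕ → F := fun r => if r = 8 then ε₁ * c else if r = 6 then ε₂ * d else
    if r = 11 then ε₃ * e else 0 with ht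
  set t' : ℕ → F := fun r => if r = 9 then c' else if r = 10 then d' else if r = 11 then e' else 0
    with ht'
  have hu := prodL_unique chevG2 memG2 [7, 8, 6, 9, 10, 11] (by decide +kernel) (by decide)
    (by
      intro r
      rw [isPos_iff]
      simp only [List.mem_cons, List.not_mem_nil, or_false]
      omega) (by decide) t t' (by
      simp only [prodL_cons, prodL_nil, mul_one]
      simp only [ht, ht']
      norm_num [xGL_zero_g2]
      rw [← mul_assoc, ← mul_assoc]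
      exact hrep) 8 (by decide)
  simp only [ht, ht'] at hu
  norm_num at hu
  rcases hu with hu | hu
  · exact eps_ne_zero ε₁ hε₁ hu
  · apply hyZ
    rw [hu, xGL_zero_g2, one_mul]
    exact mul_mem (x_mem_Z9 l hl12.2.2.1 d) (x_mem_Z9 l' hl12.2.2.2 e)

/-- `w` fixes `2a+b` -/
theorem weyl_of_conj : ∀ r, 7 ≤ r → r < 12 → 6 ≤ wAct chevG2 w r := by
  obtain ⟨T, hT, hTr⟩ := wAct_mem_wTabs w hw
  simp only [wTabs, List.mem_cons, List.not_mem_nil, or_false] at hT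
  rcases hT with rfl | rfl | rfl | rfl | rfl | rfl | rfl | rfl | rfl | rfl | rfl | rfl
  · intro r h7 h12
    have := hTr r h12
    interval_cases r <;> (rw [this]; decide)
  · exact (bad_D w hw y hy hyZ hM 10 11 (Or.inl ⟨rfl, rfl⟩) (hTr 9 (by norm_num))
      (hTr 10 (by norm_num)) (hTr 11 (by norm_num))).elim
  · intro r h7 h12
    have := hTr r h12
    interval_cases r <;> (rw [this]; decide)
  · exact (bad_C w hw y hy hyZ hM 10 11 (Or.inr ⟨rfl, rfl⟩) (hTr 9 (by norm_num))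
      (hTr 11 (by norm_num)) (by rw [hTr 10 (by norm_num)]; decide)).elim
  · exact (bad_D w hw y hy hyZ hM 11 10 (Or.inr ⟨rfl, rfl⟩) (hTr 9 (by norm_num))
      (hTr 11 (by norm_num)) (hTr 10 (by norm_num))).elim
  · exact (bad_B w hw y hy hyZ hM 10 11 (Or.inl ⟨rfl, rfl⟩) (by rw [hTr 9 (by norm_num)]; decide)
      (by rw [hTr 10 (by norm_num)]; decide) (by rw [hTr 11 (by norm_num)]; decide)).elim
  · exact (bad_C w hw y hy hyZ hM 11 10 (Or.inl ⟨rfl, rfl⟩) (hTr 9 (by norm_num))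
      (hTr 10 (by norm_num)) (by rw [hTr 11 (by norm_num)]; decide)).elim
  · exact (bad_A w hw y hy hyZ hM (by rw [hTr 9 (by norm_num)]; decide)
      (by rw [hTr 10 (by norm_num)]; decide) (by rw [hTr 11 (by norm_num)]; decide)).elim
  · exact (bad_B w hw y hy hyZ hM 11 10 (Or.inr ⟨rfl, rfl⟩) (by rw [hTr 9 (by norm_num)]; decide)
      (by rw [hTr 11 (by norm_num)]; decide) (by rw [hTr 10 (by norm_num)]; decide)).elim
  · exact (bad_A w hw y hy hyZ hM (by rw [hTr 9 (by norm_num)]; decide)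
      (by rw [hTr 10 (by norm_num)]; decide) (by rw [hTr 11 (by norm_num)]; decide)).elim
  · exact (bad_A w hw y hy hyZ hM (by rw [hTr 9 (by norm_num)]; decide)
      (by rw [hTr 10 (by norm_num)]; decide) (by rw [hTr 11 (by norm_num)]; decide)).elim
  · exact (bad_A w hw y hy hyZ hM (by rw [hTr 9 (by norm_num)]; decide)
      (by rw [hTr 10 (by norm_num)]; decide) (by rw [hTr 11 (by norm_num)]; decide)).elim

end bad


theorem x9_mem_V9 (c : F) : xGL chevG2 memG2 9 c ∈ V9 F := by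
  apply xGL_mem_rootSetSub
  simp

theorem x9_not_mem_Z9 [Fintype F] (c : F) (hc : c ≠ 0) : xGL chevG2 memG2 9 c ∉ Z9 F := by
  intro hmem
  obtain ⟨t, ht⟩ := exists_prodL chevG2 memG2 [10, 11] (by decide +kernel) (by decide) _ hmem
  rw [prodL_cons, prodL_cons, prodL_nil, mul_one] at ht
  set t₁ : ℕ → F := fun r => if r = 9 then c else 0 with ht₁
  set t₂ : ℕ → F := fun r => if r = 10 then t 10 else if r = 11 then t 11 else 0 with ht₂
  have hu := prodL_unique chevG2 memG2 (posL chevG2) (posL_good chevG2 memG2) (posL_nodup _)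
    (mem_posL chevG2 memG2) (posL_length _) t₁ t₂ (by
      show prodL chevG2 memG2 [6, 7, 8, 9, 10, 11] t₁ = prodL chevG2 memG2 [6, 7, 8, 9, 10, 11] t₂
      simp only [prodL_cons, prodL_nil, mul_one]
      simp only [ht₁, ht₂]
      norm_num [xGL_zero_g2]
      exact ht) 9 (by decide)
  simp only [ht₁, ht₂] at hu
  norm_num at hu
  exact hc hu

theorem borel_conj_mem [Fintype F] (b : GL chevG2.Idx F) (hb : b ∈ chevG2.borelSubgroup F)
    (y : GL chevG2.Idx F) (hy : y ∈ V9 F) (hyZ : y ∉ Z9 F) :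
    b * y * b⁻¹ ∈ V9 F ∧ b * y * b⁻¹ ∉ Z9 F := by
  have h1 := borel_le_normalizer_V9 (F := F) hb
  have h2 := borel_le_normalizer_Z9 (F := F) hb
  rw [Subgroup.mem_normalizer_iff] at h1 h2
  exact ⟨(h1 y).1 hy, fun h => hyZ ((h2 y).2 h)⟩

/-- the centraliser of `x_{2a+b}(1)` lies in `P_b` -/
theorem cent_le_parabolic [Fintype F] (g : GL chevG2.Idx F) (hg : g ∈ chevG2.group F)
    (hc : Commute g (xGL chevG2 memG2 9 1)) : g ∈ chevG2.parabolicSubgroup F {1} := by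
  obtain ⟨n, hn, hmem⟩ := Cfsg.Agent.S0308.result (chevBNPair chevG2 memG2 F) ⟨g, hg⟩
  rw [DoubleCoset.mem_doubleCoset] at hmem
  obtain ⟨b1, hb1, b2, hb2, e⟩ := hmem
  have hn' : (n : GL chevG2.Idx F) ∈ chevG2.monomialSubgroup F := hn
  have hb1' : (b1 : GL chevG2.Idx F) ∈ chevG2.borelSubgroup F := hb1
  have hb2' : (b2 : GL chevG2.Idx F) ∈ chevG2.borelSubgroup F := hb2
  have e' : g = (b1 : GL chevG2.Idx F) * (n : GL chevG2.Idx F) * (b2 : GL chevG2.Idx F) :=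
    congrArg Subtype.val e
  obtain ⟨w, hw, h', hh', e3⟩ := exists_word_of_mem_monomial chevG2 memG2 _ hn'
  have hB2 : h' * (b2 : GL chevG2.Idx F) ∈ chevG2.borelSubgroup F :=
    mul_mem (diagonal_le_borel chevG2 hh') hb2'
  have eg : g = (b1 : GL chevG2.Idx F) * wGL chevG2 memG2 w * (h' * (b2 : GL chevG2.Idx F)) := by
    rw [e', e3]; group
  have ht1 := x9_mem_V9 (F := F) 1
  have ht2 := x9_not_mem_Z9 (F := F) 1 one_ne_zero
  obtain ⟨hy1, hy2⟩ := borel_conj_mem _ hB2 _ ht1 ht2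
  obtain ⟨hy3, -⟩ := borel_conj_mem _ (inv_mem hb1') _ ht1 ht2
  have key : wGL chevG2 memG2 w * (h' * (b2 : GL chevG2.Idx F) * xGL chevG2 memG2 9 1
      * (h' * (b2 : GL chevG2.Idx F))⁻¹) * (wGL chevG2 memG2 w)⁻¹
      = (b1 : GL chevG2.Idx F)⁻¹ * xGL chevG2 memG2 9 1 * ((b1 : GL chevG2.Idx F)⁻¹)⁻¹ := by
    have : xGL chevG2 memG2 9 (1 : F) = g * xGL chevG2 memG2 9 1 * g⁻¹ := by
      rw [hc.eq, mul_inv_cancel_right]
    conv_rhs => rw [this, eg]
    group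
  rw [← key] at hy3
  have hpos := weyl_of_conj w hw _ hy1 hy2 hy3
  have hwP : (wGL chevG2 memG2 w : GL chevG2.Idx F) ∈ chevG2.parabolicSubgroup F {1} := by
    apply wGL_mem_parabolic_of_radSet chevG2 memG2 {1} _ w hw rfl
    intro r hr
    have h1 := (isPos_iff r).1 hr.1
    have h6 : r ≠ 6 := by
      rintro rfl
      exact hr.2 (inRootSub_simple chevG2 memG2 {1} 1 (by decide) rfl)
    rw [isPos_iff]
    exact ⟨hpos r (by omega) h1.2, wAct_lt chevG2 memG2 w hw r h1.2⟩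
  have hBP : chevG2.borelSubgroup F ≤ chevG2.parabolicSubgroup F {1} := by
    unfold ChevalleyDatum.parabolicSubgroup
    exact le_sup_left
  rw [eg]
  exact mul_mem (mul_mem (hBP hb1') hwP) (hBP hB2)

end Cfsg.Agent.Lib.Helper5.G2Cent
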