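import Mathlib
import Cfsg.Prelude.Def_ChevStructure
import Cfsg.Prelude.Def_LieChev
import Cfsg.Agent.Lib.Helper5.G2Cent.Weyl

set_option autoImplicit false

/-!
The centraliser of the short root element `x_{2a+b}(1)` of `G₂(F)`, `F` finite of characteristic
two.
-/

namespace Cfsg.Agent.Lib.Helper5.G2Cent

open Cfsg Cfsg.Lie Cfsg.Agent.Lib.Helper5.ChevSym Cfsg.Agent.Lib.Helper5.ChevStruct
  Cfsg.Agent.Lib.Helper5.FieldFix

variable {F : Type*} [Field F]

/-- the centraliser -/
def C0 (F : Type*) [Field F] : Subgroup (GL chevG2.Idx F) :=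
  rootSetSub chevG2 F {s | s ∈ [9, 10, 11, 6, 5]}

/-- `⟨X_b, X_{-b}⟩` -/
def K0 (F : Type*) [Field F] : Subgroup (GL chevG2.Idx F) :=
  rootSetSub chevG2 F {s | s ∈ [6, 5]}

theorem xGL_add_g2 (r : ℕ) (a b : F) :
    xGL chevG2 memG2 r (a + b) = xGL chevG2 memG2 r a * xGL chevG2 memG2 r b := by
  apply Units.ext
  rw [Units.val_mul, xGL_val, xGL_val, xGL_val, x_add chevG2 memG2]

theorem V9_le_C0 : V9 F ≤ C0 F := by
  apply rootSetSub_mono
  intro s hs
  simp only [Set.mem_ofPred_eq, List.mem_cons, List.not_mem_nil, or_false] at hs ⊢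
  omega

theorem K0_le_C0 : K0 F ≤ C0 F := by
  apply rootSetSub_mono
  intro s hs
  simp only [Set.mem_ofPred_eq, List.mem_cons, List.not_mem_nil, or_false] at hs ⊢
  omega

theorem inRootSub_iff (r : ℕ) : chevG2.InRootSub {1} r ↔ r = 5 ∨ r = 6 := by
  unfold ChevalleyDatum.InRootSub
  constructor
  · rintro ⟨hr, h⟩
    have h0 := h 0 (by decide) (by simp)
    have hr' : r < 12 := hr
    interval_cases r <;> first | omega | (exfalso; revert h0; decide)
  · rintro (rfl | rfl)
    · refine ⟨by decide, fun i hi hiJ => ?_⟩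
      have hi' : i < 2 := hi
      have : i ≠ 1 := hiJ
      interval_cases i
      · decide
      · exact absurd rfl this
    · refine ⟨by decide, fun i hi hiJ => ?_⟩
      have hi' : i < 2 := hi
      have : i ≠ 1 := hiJ
      interval_cases i
      · decide
      · exact absurd rfl this

theorem levi_eq : chevG2.leviSubgroup F {1} = chevG2.diagonalSubgroup F ⊔ K0 F := by
  unfold ChevalleyDatum.leviSubgroup K0 rootSetSub
  congr 2
  ext g
  constructor
  · rintro ⟨r, t, hr, hg⟩
    refine ⟨r, t, ?_, hg⟩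
    rcases (inRootSub_iff r).1 hr with rfl | rfl <;> simp
  · rintro ⟨r, t, hr, hg⟩
    refine ⟨r, t, (inRootSub_iff r).2 ?_, hg⟩
    simp only [Set.mem_ofPred_eq, List.mem_cons, List.not_mem_nil, or_false] at hr
    omega

theorem radSet_eq : radSet chevG2 {1} = {s | s ∈ [7, 8, 9, 10, 11]} := by
  ext r
  unfold radSet
  simp only [Set.mem_ofPred_eq, List.mem_cons, List.not_mem_nil, or_false]
  rw [isPos_iff, inRootSub_iff]
  omega

/-- the decomposition `P_b = U_b H K` -/
theorem parabolic_decomp (g : GL chevG2.Idx F) (hg : g ∈ chevG2.parabolicSubgroup F {1}) :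
    ∃ v ∈ rootSetSub chevG2 F {s | s ∈ [7, 8, 9, 10, 11]}, ∃ h ∈ chevG2.diagonalSubgroup F,
      ∃ k ∈ K0 F, g = v * h * k := by
  have hLP : chevG2.leviSubgroup F {1} ≤ chevG2.parabolicSubgroup F {1} := by
    rw [← unipotentRadical_sup_levi chevG2 memG2 {1}]
    exact le_sup_right
  have hLN := hLP.trans (parabolic_le_normalizer_unipotentRadical (F := F) chevG2 memG2 {1})
  rw [← unipotentRadical_sup_levi chevG2 memG2 {1}] at hg
  have hg' : g ∈ ((chevG2.unipotentRadical F {1} ⊔ chevG2.leviSubgroup F {1} :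
      Subgroup (GL chevG2.Idx F)) : Set (GL chevG2.Idx F)) := hg
  rw [Subgroup.coe_mul_of_right_le_normalizer_left _ _ hLN] at hg'
  obtain ⟨v, hv, l, hl, e⟩ := Set.mem_mul.1 hg'
  have hv' : v ∈ chevG2.unipotentRadical F {1} := hv
  rw [unipotentRadical_eq_rootSetSub, radSet_eq] at hv'
  have hl' : l ∈ ((chevG2.diagonalSubgroup F ⊔ K0 F : Subgroup (GL chevG2.Idx F)) :
      Set (GL chevG2.Idx F)) := by
    have : l ∈ chevG2.leviSubgroup F {1} := hl
    rw [levi_eq] at this
    exact this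
  have hHN : chevG2.diagonalSubgroup F ≤ Subgroup.normalizer (K0 F : Set (GL chevG2.Idx F)) :=
    diagonal_le_normalizer_rootSetSub chevG2 memG2 _
  rw [Subgroup.coe_mul_of_left_le_normalizer_right _ _ hHN] at hl'
  obtain ⟨h, hh, k, hk, e2⟩ := Set.mem_mul.1 hl'
  exact ⟨v, hv', h, hh, k, hk, by rw [← e, ← e2, mul_assoc]⟩

/-- `x_r(u)` commutes with `x_{2a+b}(a)` for `r ∈ {3a+b, 3a+2b, b, -b}` -/
theorem x_comm_x9 (r : ℕ) (hr : r ∈ [10, 11, 6, 5]) (u a : F) :
    Commute (xGL chevG2 memG2 r u) (xGL chevG2 memG2 9 a) := by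
  apply Units.ext
  rw [Units.val_mul, Units.val_mul, xGL_val, xGL_val]
  have h0 : chevG2.commTerms 9 r = [] := by
    simp only [List.mem_cons, List.not_mem_nil, or_false] at hr
    rcases hr with rfl | rfl | rfl | rfl <;> decide +kernel
  have h1 : r < chevG2.nroots ∧ r ≠ 9 ∧ r ≠ chevG2.neg 9 := by
    simp only [List.mem_cons, List.not_mem_nil, or_false] at hr
    rcases hr with rfl | rfl | rfl | rfl <;> decide
  exact RootCent.x_comm_of_zero chevG2 memG2 9 r (by decide) h1.1 h1.2.1 h1.2.2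
    (fun c hc => by rw [h0] at hc; simp at hc) a u

theorem C0_comm (g : GL chevG2.Idx F) (hg : g ∈ C0 F) (a : F) :
    Commute g (xGL chevG2 memG2 9 a) := by
  unfold C0 rootSetSub at hg
  induction hg using Subgroup.closure_induction with
  | mem y hy =>
    obtain ⟨s, u, hs, hy⟩ := hy
    have : y = xGL chevG2 memG2 s u := Units.ext hy
    rw [this]
    simp only [Set.mem_ofPred_eq, List.mem_cons, List.not_mem_nil, or_false] at hs
    rcases hs with rfl | hs
    · show _ * _ = _ * _
      rw [← xGL_add_g2, ← xGL_add_g2, add_comm]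
    · exact x_comm_x9 s (by simp only [List.mem_cons, List.not_mem_nil, or_false]; exact hs) u a
  | one => exact Commute.one_left _
  | mul x y _ _ hx hy => exact Commute.mul_left hx hy
  | inv x _ hx => exact Commute.inv_left hx


/-- conjugating a root element by another one -/
theorem conj_x (r s : ℕ) (hr : r < chevG2.nroots) (hs : s < chevG2.nroots) (h1 : s ≠ r)
    (h2 : s ≠ chevG2.neg r) (t u : F) :
    xGL chevG2 memG2 r t * xGL chevG2 memG2 s u * (xGL chevG2 memG2 r t)⁻¹
      = xGL chevG2 memG2 s u * wordGL chevG2 memG2 (chevG2.commWord F r s (-t) u) := by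
  have hxinv : (((xGL chevG2 memG2 r t)⁻¹ : GL chevG2.Idx F) : Matrix chevG2.Idx chevG2.Idx F)
      = chevG2.x F r (-t) := by
    apply val_inv_eq_of_mul_eq_one
    rw [xGL_val]
    exact x_mul_neg chevG2 memG2 r t
  have hform := comm_formula chevG2 memG2 r s hr hs h1 h2 (-t) u
  apply Units.ext
  rw [Units.val_mul, Units.val_mul, Units.val_mul, xGL_val, xGL_val, hxinv, wordGL_val,
    mul_assoc, hform, ← mul_assoc, ← mul_assoc, x_mul_neg chevG2 memG2, one_mul]

theorem conj_x8_x9 (a u : F) :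
    xGL chevG2 memG2 8 a * xGL chevG2 memG2 9 u * (xGL chevG2 memG2 8 a)⁻¹
      = xGL chevG2 memG2 9 u * xGL chevG2 memG2 11 (3 * a * u) := by
  rw [conj_x 8 9 (by decide) (by decide) (by decide) (by decide)]
  have h0 : chevG2.commTerms 8 9 = [(11, 3, 1, 1)] := by decide +kernel
  unfold ChevalleyDatum.commWord
  rw [h0]
  simp [wordGL]

theorem conj_x7_x9 (a u : F) :
    xGL chevG2 memG2 7 a * xGL chevG2 memG2 9 u * (xGL chevG2 memG2 7 a)⁻¹
      = xGL chevG2 memG2 9 u * xGL chevG2 memG2 10 (3 * a * u) := by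
  rw [conj_x 7 9 (by decide) (by decide) (by decide) (by decide)]
  have h0 : chevG2.commTerms 7 9 = [(10, 3, 1, 1)] := by decide +kernel
  unfold ChevalleyDatum.commWord
  rw [h0]
  simp [wordGL]

theorem conj_x7_x11 (a u : F) :
    xGL chevG2 memG2 7 a * xGL chevG2 memG2 11 u * (xGL chevG2 memG2 7 a)⁻¹
      = xGL chevG2 memG2 11 u := by
  rw [conj_x 7 11 (by decide) (by decide) (by decide) (by decide)]
  have h0 : chevG2.commTerms 7 11 = [] := by decide +kernel
  unfold ChevalleyDatum.commWord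
  rw [h0]
  simp [wordGL]

theorem three_eq_one [CharP F 2] : (3 : F) = 1 := by
  have h2 : (2 : F) = 0 := by
    have := CharP.cast_eq_zero F 2
    exact_mod_cast this
  linear_combination h2

/-- the elements of `U_b H` centralising `x_{2a+b}(1)` -/
theorem borel_cent [Fintype F] [CharP F 2] (v : GL chevG2.Idx F)
    (hv : v ∈ rootSetSub chevG2 F {s | s ∈ [7, 8, 9, 10, 11]}) (h : GL chevG2.Idx F)
    (hh : h ∈ chevG2.diagonalSubgroup F) (hc : Commute (v * h) (xGL chevG2 memG2 9 1)) :
    v ∈ V9 F ∧ h ∈ K0 F := by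
  obtain ⟨c, hc0, hval⟩ := exists_torusMat_of_mem chevG2 memG2 h hh
  have hχ : chi chevG2 c 9 = c 0 := by
    unfold chi
    have h1 : chevG2.cartan 0 9 = 1 := by decide
    have h2 : chevG2.cartan 1 9 = 0 := by decide
    have h3 : chevG2.rank = 2 := rfl
    rw [h3]
    simp [List.range_succ, h1, h2]
  have hconj : h * xGL chevG2 memG2 9 1 * h⁻¹ = xGL chevG2 memG2 9 (c 0) := by
    apply Units.ext
    rw [torus_conj_x chevG2 memG2 h _ c hc0 hval 9 1 (xGL_val chevG2 memG2 9 1), xGL_val, hχ,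
      mul_one]
  obtain ⟨t, ht⟩ := exists_prodL chevG2 memG2 [7, 8, 9, 10, 11] (by decide +kernel) (by decide)
    v hv
  rw [prodL_cons, prodL_cons, prodL_cons, prodL_cons, prodL_cons, prodL_nil, mul_one] at ht
  set v' : GL chevG2.Idx F := xGL chevG2 memG2 9 (t 9) * (xGL chevG2 memG2 10 (t 10)
    * xGL chevG2 memG2 11 (t 11)) with hv'def
  have hv' : v' ∈ V9 F := by
    apply mul_mem (xGL_mem_rootSetSub chevG2 memG2 _ 9 (by simp) _)
    exact mul_mem (xGL_mem_rootSetSub chevG2 memG2 _ 10 (by simp) _)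
      (xGL_mem_rootSetSub chevG2 memG2 _ 11 (by simp) _)
  have e1 : v = xGL chevG2 memG2 7 (t 7) * xGL chevG2 memG2 8 (t 8) * v' := by
    rw [ht, mul_assoc]
  have e2 : v * (h * xGL chevG2 memG2 9 1 * h⁻¹) * v⁻¹ = xGL chevG2 memG2 9 1 := by
    have : v * (h * xGL chevG2 memG2 9 1 * h⁻¹) * v⁻¹
        = (v * h) * xGL chevG2 memG2 9 1 * (v * h)⁻¹ := by group
    rw [this, hc.eq, mul_inv_cancel_right]
  rw [hconj] at e2
  have e3 : v' * xGL chevG2 memG2 9 (c 0) * v'⁻¹ = xGL chevG2 memG2 9 (c 0) := by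
    rw [(C0_comm v' (V9_le_C0 hv') (c 0)).eq, mul_inv_cancel_right]
  have e4 : xGL chevG2 memG2 7 (t 7) * (xGL chevG2 memG2 8 (t 8) * xGL chevG2 memG2 9 (c 0)
      * (xGL chevG2 memG2 8 (t 8))⁻¹) * (xGL chevG2 memG2 7 (t 7))⁻¹ = xGL chevG2 memG2 9 1 := by
    calc xGL chevG2 memG2 7 (t 7) * (xGL chevG2 memG2 8 (t 8) * xGL chevG2 memG2 9 (c 0)
          * (xGL chevG2 memG2 8 (t 8))⁻¹) * (xGL chevG2 memG2 7 (t 7))⁻¹
        = xGL chevG2 memG2 7 (t 7) * (xGL chevG2 memG2 8 (t 8)
          * (v' * xGL chevG2 memG2 9 (c 0) * v'⁻¹)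
          * (xGL chevG2 memG2 8 (t 8))⁻¹) * (xGL chevG2 memG2 7 (t 7))⁻¹ := by rw [e3]
      _ = (xGL chevG2 memG2 7 (t 7) * xGL chevG2 memG2 8 (t 8) * v') * xGL chevG2 memG2 9 (c 0)
          * (xGL chevG2 memG2 7 (t 7) * xGL chevG2 memG2 8 (t 8) * v')⁻¹ := by group
      _ = xGL chevG2 memG2 9 1 := by rw [← e1]; exact e2
  rw [conj_x8_x9, conj_mul2, conj_x7_x9, conj_x7_x11] at e4
  set t₁ : ℕ → F := fun r => if r = 9 then c 0 else if r = 10 then 3 * t 7 * c 0 else
    if r = 11 then 3 * t 8 * c 0 else 0 with ht₁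
  set t₂ : ℕ → F := fun r => if r = 9 then 1 else 0 with ht₂
  have hu := prodL_unique chevG2 memG2 (posL chevG2) (posL_good chevG2 memG2) (posL_nodup _)
    (mem_posL chevG2 memG2) (posL_length _) t₁ t₂ (by
      show prodL chevG2 memG2 [6, 7, 8, 9, 10, 11] t₁ = prodL chevG2 memG2 [6, 7, 8, 9, 10, 11] t₂
      simp only [prodL_cons, prodL_nil, mul_one]
      simp only [ht₁, ht₂]
      norm_num [xGL_zero_g2]
      rw [← mul_assoc]
      exact e4)
  have h9 := hu 9 (by decide)
  have h10 := hu 10 (by decide)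
  have h11 := hu 11 (by decide)
  simp only [ht₁, ht₂] at h9 h10 h11
  norm_num at h9 h10 h11
  rw [three_eq_one] at h10 h11
  have hc1 : c 0 = 1 := h9
  have ht7 : t 7 = 0 := by
    rcases h10 with h | h
    · simpa using h
    · exact absurd h (hc0 0)
  have ht8 : t 8 = 0 := by
    rcases h11 with h | h
    · simpa using h
    · exact absurd h (hc0 0)
  constructor
  · rw [e1, ht7, ht8, xGL_zero_g2, xGL_zero_g2, one_mul, one_mul]
    exact hv'
  · -- `h = h_b(c 1)`
    set g₁ : GL chevG2.Idx F := wordGL chevG2 memG2 (chevG2.hWord (chevG2.simple 1) (c 1)) with hg₁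
    have hg₁v : (g₁ : Matrix chevG2.Idx chevG2.Idx F) = chevG2.hMat F (chevG2.simple 1) (c 1) := by
      rw [hg₁, wordGL_val]; rfl
    have hg₁m : g₁ ∈ K0 F := by
      apply wordGL_mem_rootSetSub chevG2 memG2
      intro q hq
      unfold ChevalleyDatum.hWord ChevalleyDatum.nWord at hq
      simp only [List.cons_append, List.nil_append, List.mem_cons, List.not_mem_nil,
        or_false] at hq
      rcases hq with rfl | rfl | rfl | rfl | rfl | rfl
      · show chevG2.simple 1 ∈ [6, 5]
        decide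
      · show chevG2.neg (chevG2.simple 1) ∈ [6, 5]
        decide
      · show chevG2.simple 1 ∈ [6, 5]
        decide
      · show chevG2.simple 1 ∈ [6, 5]
        decide
      · show chevG2.neg (chevG2.simple 1) ∈ [6, 5]
        decide
      · show chevG2.simple 1 ∈ [6, 5]
        decide
    have : h = g₁ := by
      apply Units.ext
      rw [hval, hg₁v, hMat_simple_eq_torusMat chevG2 memG2 1 (by decide) (c 1) (hc0 1)]
      unfold torusMat
      congr 1
      funext j
      rcases j with j | s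
      · rfl
      · simp only [Sum.elim_inr]
        apply chi_congr
        intro i hi
        have hi' : i < 2 := hi
        interval_cases i
        · simp [hc1]
        · simp
    rw [this]
    exact hg₁m


theorem C0_le_group : C0 F ≤ chevG2.group F := by
  unfold C0 rootSetSub
  rw [Subgroup.closure_le]
  rintro g ⟨s, c, -, hg⟩
  have : g = xGL chevG2 memG2 s c := Units.ext hg
  rw [this]
  exact xGL_mem_group chevG2 memG2 s c

/-- the centraliser of `x_{2a+b}(1)` -/
theorem cent_short [Fintype F] [CharP F 2] (t : GL chevG2.Idx F)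
    (ht : (t : Matrix chevG2.Idx chevG2.Idx F) = chevG2.x F 9 1) :
    chevG2.group F ⊓ Subgroup.centralizer {t} = C0 F := by
  have et : t = xGL chevG2 memG2 9 1 := Units.ext ht
  apply le_antisymm
  · rintro g ⟨hg, hc⟩
    have hc' : Commute g (xGL chevG2 memG2 9 1) := by
      rw [← et]
      exact (Subgroup.mem_centralizer_iff.1 hc t rfl).symm
    have hP := cent_le_parabolic g hg hc'
    obtain ⟨v, hv, h, hh, k, hk, e⟩ := parabolic_decomp g hP
    have hkc := C0_comm k (K0_le_C0 hk) (1 : F)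
    have hvh : Commute (v * h) (xGL chevG2 memG2 9 1) := by
      have : v * h = g * k⁻¹ := by rw [e]; group
      rw [this]
      exact Commute.mul_left hc' (Commute.inv_left hkc)
    obtain ⟨h1, h2⟩ := borel_cent v hv h hh hvh
    rw [e]
    exact mul_mem (mul_mem (V9_le_C0 h1) (K0_le_C0 h2)) (K0_le_C0 hk)
  · intro g hg
    refine ⟨C0_le_group hg, ?_⟩
    show g ∈ Subgroup.centralizer {t}
    rw [Subgroup.mem_centralizer_iff]
    intro y hy
    rw [Set.mem_singleton_iff.1 hy, et]
    exact (C0_comm g hg 1).eq.symm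

/-- the subgroup generated by five root subgroups -/
theorem sup5_eq (a b c d e : ℕ) :
    chevG2.rootSubgroup F a ⊔ chevG2.rootSubgroup F b ⊔ chevG2.rootSubgroup F c
      ⊔ chevG2.rootSubgroup F d ⊔ chevG2.rootSubgroup F e
      = rootSetSub chevG2 F {s | s ∈ [a, b, c, d, e]} := by
  apply le_antisymm
  · have h : ∀ s ∈ [a, b, c, d, e], chevG2.rootSubgroup F s
        ≤ rootSetSub chevG2 F {s | s ∈ [a, b, c, d, e]} := by
      intro s hs
      unfold ChevalleyDatum.rootSubgroup rootSetSub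
      apply Subgroup.closure_mono
      rintro g ⟨t, hg⟩
      exact ⟨s, t, hs, hg⟩
    exact sup_le (sup_le (sup_le (sup_le (h a (by simp)) (h b (by simp))) (h c (by simp)))
      (h d (by simp))) (h e (by simp))
  · unfold rootSetSub
    rw [Subgroup.closure_le]
    rintro g ⟨s, t, hs, hg⟩
    simp only [Set.mem_ofPred_eq, List.mem_cons, List.not_mem_nil, or_false] at hs
    rcases hs with rfl | rfl | rfl | rfl | rfl
    · exact Subgroup.mem_sup_left (Subgroup.mem_sup_left (Subgroup.mem_sup_left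
        (Subgroup.mem_sup_left (Subgroup.subset_closure ⟨t, hg⟩))))
    · exact Subgroup.mem_sup_left (Subgroup.mem_sup_left (Subgroup.mem_sup_left
        (Subgroup.mem_sup_right (Subgroup.subset_closure ⟨t, hg⟩))))
    · exact Subgroup.mem_sup_left (Subgroup.mem_sup_left (Subgroup.mem_sup_right
        (Subgroup.subset_closure ⟨t, hg⟩)))
    · exact Subgroup.mem_sup_left (Subgroup.mem_sup_right (Subgroup.subset_closure ⟨t, hg⟩))
    · exact Subgroup.mem_sup_right (Subgroup.subset_closure ⟨t, hg⟩)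

end Cfsg.Agent.Lib.Helper5.G2Cent
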