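import Mathlib
import Cfsg.Prelude.Def_ChevStructure
import Cfsg.Prelude.Def_LieChev
import Cfsg.Agent.Lib.Helper5.G2Cent.Para
import Cfsg.Agent.Lib.Helper5.ChevRankOne

set_option autoImplicit false

/-!
Conjugation formulas in `G₂(F)`, `F` of characteristic two.
-/

namespace Cfsg.Agent.Lib.Helper5.G2Cent

open Cfsg Cfsg.Lie Cfsg.Agent.Lib.Helper5.ChevSym Cfsg.Agent.Lib.Helper5.ChevStruct
  Cfsg.Agent.Lib.Helper5.FieldFix

variable {F : Type*} [Field F]

/-- conjugacy inside the Chevalley group -/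
def ConjG (u v : GL chevG2.Idx F) : Prop := ∃ h ∈ chevG2.group F, h * u * h⁻¹ = v

theorem ConjG.refl (u : GL chevG2.Idx F) : ConjG u u := ⟨1, one_mem _, by simp⟩

theorem ConjG.trans {u v w : GL chevG2.Idx F} (h1 : ConjG u v) (h2 : ConjG v w) : ConjG u w := by
  obtain ⟨a, ha, rfl⟩ := h1
  obtain ⟨b, hb, rfl⟩ := h2
  exact ⟨b * a, mul_mem hb ha, by group⟩

theorem ConjG.of_eq {u v : GL chevG2.Idx F} (h : u = v) : ConjG u v := h ▸ ConjG.refl u

theorem conjG_x (r : ℕ) (t : F) (u : GL chevG2.Idx F) :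
    ConjG u (xGL chevG2 memG2 r t * u * (xGL chevG2 memG2 r t)⁻¹) :=
  ⟨_, xGL_mem_group chevG2 memG2 r t, rfl⟩

section char2

variable [CharP F 2]

theorem two_eq_zero' : (2 : F) = 0 := by
  have := CharP.cast_eq_zero F 2
  exact_mod_cast this

theorem neg_eq' (a : F) : -a = a := by
  have h : a + a = 0 := by
    have := two_eq_zero' (F := F)
    linear_combination a * this
  exact neg_eq_of_add_eq_zero_left h

theorem xGL_sq (r : ℕ) (t : F) : xGL chevG2 memG2 r t * xGL chevG2 memG2 r t = 1 := by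
  rw [← xGL_add_g2]
  have h : t + t = 0 := by
    have := two_eq_zero' (F := F)
    linear_combination t * this
  rw [h, xGL_zero_g2]

theorem xGL_inv2 (r : ℕ) (t : F) : (xGL chevG2 memG2 r t)⁻¹ = xGL chevG2 memG2 r t :=
  inv_eq_of_mul_eq_one_left (xGL_sq r t)

/-- the signs `η` are trivial in characteristic two -/
theorem eta_eq_one (i : ℕ) (hi : i < chevG2.rank) (s : ℕ) (hs : s < chevG2.nroots) :
    ((eta chevG2 i s : ℤ) : F) = 1 := by
  have h := eta_cast_sq (F := F) chevG2 memG2 i hi s hs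
  have h2 := two_eq_zero' (F := F)
  have : (((eta chevG2 i s : ℤ) : F) - 1) * (((eta chevG2 i s : ℤ) : F) - 1) = 0 := by
    linear_combination h - ((eta chevG2 i s : ℤ) : F) * h2 + h2
  have := mul_self_eq_zero.1 this
  linear_combination this

/-- conjugation by `n_i` -/
theorem conj_n (i : ℕ) (hi : i < chevG2.rank) (r : ℕ) (hr : r < chevG2.nroots) (t : F) :
    nGL chevG2 memG2 i * xGL chevG2 memG2 r t * (nGL chevG2 memG2 i)⁻¹
      = xGL chevG2 memG2 (chevG2.reflectRoot i r) t := by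
  apply Units.ext
  rw [nGL_conj chevG2 memG2 i hi r hr t _ (xGL_val chevG2 memG2 r t), xGL_val, eta_eq_one i hi r hr,
    one_mul]

omit [CharP F 2] in
theorem nGL_mem_group' (i : ℕ) : (nGL chevG2 memG2 i : GL chevG2.Idx F) ∈ chevG2.group F :=
  wordGL_mem_group chevG2 memG2 _

end char2

/-- conjugation by `h_{p_i}(c)` -/
theorem conj_h (i : ℕ) (hi : i < chevG2.rank) (c : F) (hc : c ≠ 0) (r : ℕ) (t : F) :
    hGL chevG2 memG2 (chevG2.simple i) c * xGL chevG2 memG2 r t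
        * (hGL chevG2 memG2 (chevG2.simple i) c)⁻¹
      = xGL chevG2 memG2 r (c ^ (chevG2.cartan i r) * t) := by
  rw [mul_inv_eq_iff_eq_mul]
  apply Units.ext
  rw [Units.val_mul, Units.val_mul, hGL_val, xGL_val, xGL_val,
    hMat_simple_x chevG2 memG2 i r hi c hc t]

theorem hGL_mem_group' (r : ℕ) (c : F) : (hGL chevG2 memG2 r c : GL chevG2.Idx F) ∈ chevG2.group F :=
  wordGL_mem_group chevG2 memG2 _

theorem conj_x6_x10 (a u : F) :
    xGL chevG2 memG2 6 a * xGL chevG2 memG2 10 u * (xGL chevG2 memG2 6 a)⁻¹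
      = xGL chevG2 memG2 10 u * xGL chevG2 memG2 11 (a * u) := by
  rw [conj_x 6 10 (by decide) (by decide) (by decide) (by decide)]
  have h0 : chevG2.commTerms 6 10 = [(11, 1, 1, 1)] := by decide +kernel
  unfold ChevalleyDatum.commWord
  rw [h0]
  simp [wordGL]

theorem conj_x9_x8 (a u : F) :
    xGL chevG2 memG2 9 a * xGL chevG2 memG2 8 u * (xGL chevG2 memG2 9 a)⁻¹
      = xGL chevG2 memG2 8 u * xGL chevG2 memG2 11 (-3 * a * u) := by
  rw [conj_x 9 8 (by decide) (by decide) (by decide) (by decide)]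
  have h0 : chevG2.commTerms 9 8 = [(11, -3, 1, 1)] := by decide +kernel
  unfold ChevalleyDatum.commWord
  rw [h0]
  simp [wordGL]

theorem conj_x7_x8 (a u : F) :
    xGL chevG2 memG2 7 a * xGL chevG2 memG2 8 u * (xGL chevG2 memG2 7 a)⁻¹
      = xGL chevG2 memG2 8 u * (xGL chevG2 memG2 9 (-2 * a * u) * (xGL chevG2 memG2 10 (-3 * a ^ 2 * u)
        * xGL chevG2 memG2 11 (3 * a * u ^ 2))) := by
  rw [conj_x 7 8 (by decide) (by decide) (by decide) (by decide)]
  have h0 : chevG2.commTerms 7 8 = [(9, -2, 1, 1), (10, -3, 2, 1), (11, 3, 1, 2)] := by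
    decide +kernel
  unfold ChevalleyDatum.commWord
  rw [h0]
  simp [wordGL]

theorem conj_x8_x7 (a u : F) :
    xGL chevG2 memG2 8 a * xGL chevG2 memG2 7 u * (xGL chevG2 memG2 8 a)⁻¹
      = xGL chevG2 memG2 7 u * (xGL chevG2 memG2 9 (2 * a * u) * (xGL chevG2 memG2 11 (3 * a ^ 2 * u)
        * xGL chevG2 memG2 10 (-3 * a * u ^ 2))) := by
  rw [conj_x 8 7 (by decide) (by decide) (by decide) (by decide)]
  have h0 : chevG2.commTerms 8 7 = [(9, 2, 1, 1), (11, 3, 2, 1), (10, -3, 1, 2)] := by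
    decide +kernel
  unfold ChevalleyDatum.commWord
  rw [h0]
  simp [wordGL]

theorem conj_x6_x7 (a u : F) :
    xGL chevG2 memG2 6 a * xGL chevG2 memG2 7 u * (xGL chevG2 memG2 6 a)⁻¹
      = xGL chevG2 memG2 7 u * (xGL chevG2 memG2 8 (a * u) * (xGL chevG2 memG2 9 (a * u ^ 2)
        * (xGL chevG2 memG2 10 (-(a * u ^ 3)) * xGL chevG2 memG2 11 (-2 * a ^ 2 * u ^ 3)))) := by
  rw [conj_x 6 7 (by decide) (by decide) (by decide) (by decide)]
  have h0 : chevG2.commTerms 6 7 = [(8, 1, 1, 1), (9, 1, 1, 2), (10, -1, 1, 3), (11, -2, 2, 3)] := by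
    decide +kernel
  unfold ChevalleyDatum.commWord
  rw [h0]
  simp [wordGL]

theorem conj_x7_x6 (a u : F) :
    xGL chevG2 memG2 7 a * xGL chevG2 memG2 6 u * (xGL chevG2 memG2 7 a)⁻¹
      = xGL chevG2 memG2 6 u * (xGL chevG2 memG2 8 (-(a * u)) * (xGL chevG2 memG2 9 (a ^ 2 * u)
        * (xGL chevG2 memG2 10 (a ^ 3 * u) * xGL chevG2 memG2 11 (a ^ 3 * u ^ 2)))) := by
  rw [conj_x 7 6 (by decide) (by decide) (by decide) (by decide)]
  have h0 : chevG2.commTerms 7 6 = [(8, -1, 1, 1), (9, 1, 2, 1), (10, 1, 3, 1), (11, 1, 3, 2)] := by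
    decide +kernel
  unfold ChevalleyDatum.commWord
  rw [h0]
  simp [wordGL]

/-- root elements of roots whose sum is not a root commute -/
theorem conj_x_triv (r s : ℕ) (hr : r < chevG2.nroots) (hs : s < chevG2.nroots) (h1 : s ≠ r)
    (h2 : s ≠ chevG2.neg r) (h0 : chevG2.commTerms r s = []) (a u : F) :
    xGL chevG2 memG2 r a * xGL chevG2 memG2 s u * (xGL chevG2 memG2 r a)⁻¹
      = xGL chevG2 memG2 s u := by
  rw [conj_x r s hr hs h1 h2]
  unfold ChevalleyDatum.commWord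
  rw [h0]
  simp [wordGL]


/-! ### The quotient `B / V9` -/

instance V9_normal : ((V9 F).subgroupOf (chevG2.borelSubgroup F)).Normal :=
  Subgroup.normal_subgroupOf_of_le_normalizer borel_le_normalizer_V9

/-- the projection to `B / V9`, extended by `1` -/
noncomputable def piV (g : GL chevG2.Idx F) :
    ↥(chevG2.borelSubgroup F) ⧸ (V9 F).subgroupOf (chevG2.borelSubgroup F) := by
  classical
  exact if h : g ∈ chevG2.borelSubgroup F then QuotientGroup.mk ⟨g, h⟩ else 1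

theorem piV_of_mem (g : GL chevG2.Idx F) (h : g ∈ chevG2.borelSubgroup F) :
    piV g = QuotientGroup.mk ⟨g, h⟩ := by
  unfold piV
  rw [dif_pos h]

theorem piV_mul (a b : GL chevG2.Idx F) (ha : a ∈ chevG2.borelSubgroup F)
    (hb : b ∈ chevG2.borelSubgroup F) : piV (a * b) = piV a * piV b := by
  rw [piV_of_mem a ha, piV_of_mem b hb, piV_of_mem _ (mul_mem ha hb)]
  rfl

theorem piV_inv (a : GL chevG2.Idx F) (ha : a ∈ chevG2.borelSubgroup F) :
    piV a⁻¹ = (piV a)⁻¹ := by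
  rw [piV_of_mem a ha, piV_of_mem _ (inv_mem ha)]
  rfl

theorem piV_eq_one (w : GL chevG2.Idx F) (hw : w ∈ V9 F) : piV w = 1 := by
  have hB : w ∈ chevG2.borelSubgroup F := pos_le_borel chevG2 (V9_le_pos hw)
  rw [piV_of_mem w hB, QuotientGroup.eq_one_iff]
  exact hw

theorem piV_eq (a b : GL chevG2.Idx F) (ha : a ∈ chevG2.borelSubgroup F)
    (hb : b ∈ chevG2.borelSubgroup F) (h : piV a = piV b) : a⁻¹ * b ∈ V9 F := by
  rw [piV_of_mem a ha, piV_of_mem b hb, QuotientGroup.eq] at h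
  exact h

theorem xB_mem (r : ℕ) (hr : 6 ≤ r ∧ r < 12) (t : F) :
    xGL chevG2 memG2 r t ∈ chevG2.borelSubgroup F :=
  pos_le_borel chevG2 (xGL_pos_mem r hr t)

theorem piV_x9 (t : F) : piV (xGL chevG2 memG2 9 t) = 1 := piV_eq_one _ (x9_mem_V9 t)

theorem piV_x10 (t : F) : piV (xGL chevG2 memG2 10 t) = 1 :=
  piV_eq_one _ (xGL_mem_rootSetSub chevG2 memG2 _ 10 (by simp) t)

theorem piV_x11 (t : F) : piV (xGL chevG2 memG2 11 t) = 1 :=
  piV_eq_one _ (xGL_mem_rootSetSub chevG2 memG2 _ 11 (by simp) t)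

theorem piV_add (r : ℕ) (hr : 6 ≤ r ∧ r < 12) (s t : F) :
    piV (xGL chevG2 memG2 r (s + t)) = piV (xGL chevG2 memG2 r s) * piV (xGL chevG2 memG2 r t) := by
  rw [xGL_add_g2, piV_mul _ _ (xB_mem r hr s) (xB_mem r hr t)]

section char2

variable [CharP F 2]

theorem piV_sq (r : ℕ) (hr : 6 ≤ r ∧ r < 12) (t : F) :
    piV (xGL chevG2 memG2 r t) * piV (xGL chevG2 memG2 r t) = 1 := by
  rw [← piV_mul _ _ (xB_mem r hr t) (xB_mem r hr t), xGL_sq, piV_eq_one _ (one_mem _)]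

/-- `x_a(t) x_b(u) x_a(t)⁻¹ ≡ x_b(u) x_{a+b}(t u)` -/
theorem rel_76 (t u : F) :
    piV (xGL chevG2 memG2 7 t) * piV (xGL chevG2 memG2 6 u) * piV (xGL chevG2 memG2 7 t)
      = piV (xGL chevG2 memG2 6 u) * piV (xGL chevG2 memG2 8 (t * u)) := by
  have h := congrArg piV (conj_x7_x6 t u)
  rw [xGL_inv2, piV_mul _ _ (mul_mem (xB_mem 7 (by norm_num) t) (xB_mem 6 (by norm_num) u))
      (xB_mem 7 (by norm_num) t),
    piV_mul _ _ (xB_mem 7 (by norm_num) t) (xB_mem 6 (by norm_num) u),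
    piV_mul _ _ (xB_mem 6 (by norm_num) u) (mul_mem (xB_mem 8 (by norm_num) _)
      (mul_mem (xB_mem 9 (by norm_num) _) (mul_mem (xB_mem 10 (by norm_num) _)
        (xB_mem 11 (by norm_num) _)))),
    piV_mul _ _ (xB_mem 8 (by norm_num) _)
      (mul_mem (xB_mem 9 (by norm_num) _) (mul_mem (xB_mem 10 (by norm_num) _)
        (xB_mem 11 (by norm_num) _))),
    piV_eq_one (xGL chevG2 memG2 9 _ * _) (mul_mem (x9_mem_V9 _)
      (mul_mem (xGL_mem_rootSetSub chevG2 memG2 _ 10 (by simp) _)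
        (xGL_mem_rootSetSub chevG2 memG2 _ 11 (by simp) _))), mul_one, neg_eq'] at h
  exact h

/-- `x_b(t) x_a(u) x_b(t)⁻¹ ≡ x_a(u) x_{a+b}(t u)` -/
theorem rel_67 (t u : F) :
    piV (xGL chevG2 memG2 6 t) * piV (xGL chevG2 memG2 7 u) * piV (xGL chevG2 memG2 6 t)
      = piV (xGL chevG2 memG2 7 u) * piV (xGL chevG2 memG2 8 (t * u)) := by
  have h := congrArg piV (conj_x6_x7 t u)
  rw [xGL_inv2, piV_mul _ _ (mul_mem (xB_mem 6 (by norm_num) t) (xB_mem 7 (by norm_num) u))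
      (xB_mem 6 (by norm_num) t),
    piV_mul _ _ (xB_mem 6 (by norm_num) t) (xB_mem 7 (by norm_num) u),
    piV_mul _ _ (xB_mem 7 (by norm_num) u) (mul_mem (xB_mem 8 (by norm_num) _)
      (mul_mem (xB_mem 9 (by norm_num) _) (mul_mem (xB_mem 10 (by norm_num) _)
        (xB_mem 11 (by norm_num) _)))),
    piV_mul _ _ (xB_mem 8 (by norm_num) _)
      (mul_mem (xB_mem 9 (by norm_num) _) (mul_mem (xB_mem 10 (by norm_num) _)
        (xB_mem 11 (by norm_num) _))),
    piV_eq_one (xGL chevG2 memG2 9 _ * _) (mul_mem (x9_mem_V9 _)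
      (mul_mem (xGL_mem_rootSetSub chevG2 memG2 _ 10 (by simp) _)
        (xGL_mem_rootSetSub chevG2 memG2 _ 11 (by simp) _))), mul_one] at h
  exact h

/-- `x_a(t) x_{a+b}(u) x_a(t)⁻¹ ≡ x_{a+b}(u)` -/
theorem rel_78 (t u : F) :
    piV (xGL chevG2 memG2 7 t) * piV (xGL chevG2 memG2 8 u) * piV (xGL chevG2 memG2 7 t)
      = piV (xGL chevG2 memG2 8 u) := by
  have h := congrArg piV (conj_x7_x8 t u)
  rw [xGL_inv2, piV_mul _ _ (mul_mem (xB_mem 7 (by norm_num) t) (xB_mem 8 (by norm_num) u))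
      (xB_mem 7 (by norm_num) t),
    piV_mul _ _ (xB_mem 7 (by norm_num) t) (xB_mem 8 (by norm_num) u),
    piV_mul _ _ (xB_mem 8 (by norm_num) u)
      (mul_mem (xB_mem 9 (by norm_num) _) (mul_mem (xB_mem 10 (by norm_num) _)
        (xB_mem 11 (by norm_num) _))),
    piV_eq_one (xGL chevG2 memG2 9 _ * _) (mul_mem (x9_mem_V9 _)
      (mul_mem (xGL_mem_rootSetSub chevG2 memG2 _ 10 (by simp) _)
        (xGL_mem_rootSetSub chevG2 memG2 _ 11 (by simp) _))), mul_one] at h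
  exact h

/-- `x_b(t) x_{a+b}(u) x_b(t)⁻¹ = x_{a+b}(u)` -/
theorem rel_68 (t u : F) :
    piV (xGL chevG2 memG2 6 t) * piV (xGL chevG2 memG2 8 u) * piV (xGL chevG2 memG2 6 t)
      = piV (xGL chevG2 memG2 8 u) := by
  have h := congrArg piV (conj_x_triv 6 8 (by decide) (by decide) (by decide) (by decide)
    (by decide +kernel) t u)
  rw [xGL_inv2, piV_mul _ _ (mul_mem (xB_mem 6 (by norm_num) t) (xB_mem 8 (by norm_num) u))
      (xB_mem 6 (by norm_num) t),
    piV_mul _ _ (xB_mem 6 (by norm_num) t) (xB_mem 8 (by norm_num) u)] at h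
  exact h

end char2

end Cfsg.Agent.Lib.Helper5.G2Cent
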