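import Mathlib
import Cfsg.Prelude.Def_ChevStructure
import Cfsg.Prelude.Def_LieChev
import Cfsg.Agent.Lib.Helper5.G2Cent.Invol

set_option autoImplicit false

/-!
The involutions of `U ≤ G₂(F)`, `F` finite of characteristic two, are conjugate to `x_{3a+2b}(1)`
or to `x_{2a+b}(1)`.
-/

namespace Cfsg.Agent.Lib.Helper5.G2Cent

open Cfsg Cfsg.Lie Cfsg.Agent.Lib.Helper5.ChevSym Cfsg.Agent.Lib.Helper5.ChevStruct
  Cfsg.Agent.Lib.Helper5.FieldFix

variable {F : Type*} [Field F]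

/-- conjugate to a long or to a short root element -/
def IsRootInv (u : GL chevG2.Idx F) : Prop :=
  ConjG u (xGL chevG2 memG2 11 1) ∨ ConjG u (xGL chevG2 memG2 9 1)

theorem IsRootInv.of_conj {u v : GL chevG2.Idx F} (h : ConjG u v) (hv : IsRootInv v) :
    IsRootInv u := by
  rcases hv with hv | hv
  · exact Or.inl (h.trans hv)
  · exact Or.inr (h.trans hv)

theorem xGL_inj (r : ℕ) (hr : r < chevG2.nroots) (a b : F)
    (h : xGL chevG2 memG2 r a = xGL chevG2 memG2 r b) : a = b := by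
  have := congrArg Units.val h
  rw [xGL_val, xGL_val] at this
  exact RootCent.x_par_inj chevG2 memG2 r hr a b this

theorem xGL_eq_one (r : ℕ) (hr : r < chevG2.nroots) (a : F)
    (h : xGL chevG2 memG2 r a = 1) : a = 0 := by
  rw [← xGL_zero_g2 r] at h
  exact xGL_inj r hr a 0 h

theorem torus9 (s : F) (hs : s ≠ 0) : ConjG (xGL chevG2 memG2 9 s) (xGL chevG2 memG2 9 1) := by
  refine ⟨hGL chevG2 memG2 (chevG2.simple 0) s⁻¹, hGL_mem_group' _ _, ?_⟩
  rw [conj_h 0 (by decide) s⁻¹ (inv_ne_zero hs) 9 s]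
  have h1 : chevG2.cartan 0 9 = 1 := by decide
  rw [h1, zpow_one, inv_mul_cancel₀ hs]

theorem torus11 (s : F) (hs : s ≠ 0) : ConjG (xGL chevG2 memG2 11 s) (xGL chevG2 memG2 11 1) := by
  refine ⟨hGL chevG2 memG2 (chevG2.simple 1) s⁻¹, hGL_mem_group' _ _, ?_⟩
  rw [conj_h 1 (by decide) s⁻¹ (inv_ne_zero hs) 11 s]
  have h1 : chevG2.cartan 1 11 = 1 := by decide
  rw [h1, zpow_one, inv_mul_cancel₀ hs]

theorem x9_comm_x10 (a b : F) :
    xGL chevG2 memG2 9 a * xGL chevG2 memG2 10 b = xGL chevG2 memG2 10 b * xGL chevG2 memG2 9 a :=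
  ((x_comm_x9 10 (by simp) b a).eq).symm

theorem x9_comm_x11 (a b : F) :
    xGL chevG2 memG2 9 a * xGL chevG2 memG2 11 b = xGL chevG2 memG2 11 b * xGL chevG2 memG2 9 a :=
  ((x_comm_x9 11 (by simp) b a).eq).symm

/-- multiplication in `V9` -/
theorem V9_mul (a b c a' b' c' : F) :
    (xGL chevG2 memG2 9 a * xGL chevG2 memG2 10 b * xGL chevG2 memG2 11 c)
      * (xGL chevG2 memG2 9 a' * xGL chevG2 memG2 10 b' * xGL chevG2 memG2 11 c')
      = xGL chevG2 memG2 9 (a + a') * xGL chevG2 memG2 10 (b + b') * xGL chevG2 memG2 11 (c + c') := by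
  rw [xGL_add_g2, xGL_add_g2, xGL_add_g2]
  calc (xGL chevG2 memG2 9 a * xGL chevG2 memG2 10 b * xGL chevG2 memG2 11 c)
        * (xGL chevG2 memG2 9 a' * xGL chevG2 memG2 10 b' * xGL chevG2 memG2 11 c')
      = xGL chevG2 memG2 9 a * xGL chevG2 memG2 10 b * (xGL chevG2 memG2 11 c * xGL chevG2 memG2 9 a')
        * xGL chevG2 memG2 10 b' * xGL chevG2 memG2 11 c' := by group
    _ = xGL chevG2 memG2 9 a * (xGL chevG2 memG2 10 b * xGL chevG2 memG2 9 a')
        * (xGL chevG2 memG2 11 c * xGL chevG2 memG2 10 b') * xGL chevG2 memG2 11 c' := by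
      rw [← x9_comm_x11]; group
    _ = xGL chevG2 memG2 9 a * xGL chevG2 memG2 9 a' * xGL chevG2 memG2 10 b
        * (xGL chevG2 memG2 10 b' * xGL chevG2 memG2 11 c) * xGL chevG2 memG2 11 c' := by
      rw [← x9_comm_x10, ← x10_comm_x11]; group
    _ = _ := by group

theorem conj8_V9 (t s₄ s₅ s₆ : F) :
    xGL chevG2 memG2 8 t * (xGL chevG2 memG2 9 s₄ * xGL chevG2 memG2 10 s₅ * xGL chevG2 memG2 11 s₆)
        * (xGL chevG2 memG2 8 t)⁻¹
      = xGL chevG2 memG2 9 s₄ * xGL chevG2 memG2 10 s₅ * xGL chevG2 memG2 11 (3 * t * s₄ + s₆) := by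
  rw [conj_mul3, conj_x8_x9, conj_x_triv 8 10 (by decide) (by decide) (by decide) (by decide)
    (by decide +kernel), conj_x_triv 8 11 (by decide) (by decide) (by decide) (by decide)
    (by decide +kernel), xGL_add_g2, mul_assoc (xGL chevG2 memG2 9 s₄), ← x10_comm_x11]
  group

theorem conj7_V9 (t s₄ s₅ s₆ : F) :
    xGL chevG2 memG2 7 t * (xGL chevG2 memG2 9 s₄ * xGL chevG2 memG2 10 s₅ * xGL chevG2 memG2 11 s₆)
        * (xGL chevG2 memG2 7 t)⁻¹
      = xGL chevG2 memG2 9 s₄ * xGL chevG2 memG2 10 (3 * t * s₄ + s₅) * xGL chevG2 memG2 11 s₆ := by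
  rw [conj_mul3, conj_x7_x9, conj_x_triv 7 10 (by decide) (by decide) (by decide) (by decide)
    (by decide +kernel), conj_x7_x11, xGL_add_g2]
  group

theorem conj6_V9 (t s₄ s₅ s₆ : F) :
    xGL chevG2 memG2 6 t * (xGL chevG2 memG2 9 s₄ * xGL chevG2 memG2 10 s₅ * xGL chevG2 memG2 11 s₆)
        * (xGL chevG2 memG2 6 t)⁻¹
      = xGL chevG2 memG2 9 s₄ * xGL chevG2 memG2 10 s₅ * xGL chevG2 memG2 11 (t * s₅ + s₆) := by
  rw [conj_mul3, conj_x_triv 6 9 (by decide) (by decide) (by decide) (by decide)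
    (by decide +kernel), conj_x6_x10, conj_x_triv 6 11 (by decide) (by decide) (by decide)
    (by decide) (by decide +kernel), xGL_add_g2]
  group

theorem sq_aw (a w : GL chevG2.Idx F) (ha : a⁻¹ = a) :
    (a * w) * (a * w) = (a * w * a⁻¹) * w := by
  rw [ha]
  group

section char2

variable [CharP F 2]

theorem V9_sq (a b c : F) :
    (xGL chevG2 memG2 9 a * xGL chevG2 memG2 10 b * xGL chevG2 memG2 11 c)
      * (xGL chevG2 memG2 9 a * xGL chevG2 memG2 10 b * xGL chevG2 memG2 11 c) = 1 := by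
  rw [V9_mul]
  have h : ∀ x : F, x + x = 0 := fun x => by
    have := two_eq_zero' (F := F)
    linear_combination x * this
  rw [h, h, h, xGL_zero_g2, xGL_zero_g2, xGL_zero_g2, one_mul, one_mul]

theorem add_self' (x : F) : x + x = 0 := by
  have := two_eq_zero' (F := F)
  linear_combination x * this

theorem refl_vals : chevG2.reflectRoot 1 10 = 11 ∧ chevG2.reflectRoot 1 11 = 10 ∧
    chevG2.reflectRoot 1 7 = 8 ∧ chevG2.reflectRoot 0 8 = 9 ∧ chevG2.reflectRoot 0 6 = 10 ∧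
    chevG2.reflectRoot 0 9 = 8 ∧ chevG2.reflectRoot 0 11 = 11 := by decide +kernel

/-- the non-trivial elements of `V9` -/
theorem claimA (s₄ s₅ s₆ : F) (hne : ¬ (s₄ = 0 ∧ s₅ = 0 ∧ s₆ = 0)) :
    IsRootInv (xGL chevG2 memG2 9 s₄ * xGL chevG2 memG2 10 s₅ * xGL chevG2 memG2 11 s₆) := by
  by_cases h4 : s₄ = 0
  · left
    by_cases h5 : s₅ = 0
    · have h6 : s₆ ≠ 0 := fun h => hne ⟨h4, h5, h⟩
      rw [h4, h5, xGL_zero_g2, xGL_zero_g2, one_mul, one_mul]
      exact torus11 s₆ h6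
    · rw [h4, xGL_zero_g2, one_mul]
      have e1 : xGL chevG2 memG2 6 (s₆ / s₅) * (xGL chevG2 memG2 10 s₅ * xGL chevG2 memG2 11 s₆)
          * (xGL chevG2 memG2 6 (s₆ / s₅))⁻¹ = xGL chevG2 memG2 10 s₅ := by
        rw [conj_mul2, conj_x6_x10, conj_x_triv 6 11 (by decide) (by decide) (by decide) (by decide)
          (by decide +kernel), mul_assoc, ← xGL_add_g2, div_mul_cancel₀ _ h5, add_self',
          xGL_zero_g2, mul_one]
      have e2 : nGL chevG2 memG2 1 * xGL chevG2 memG2 10 s₅ * (nGL chevG2 memG2 1)⁻¹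
          = xGL chevG2 memG2 11 s₅ := by
        rw [conj_n 1 (by decide) 10 (by decide), refl_vals.1]
      exact ConjG.trans ⟨_, xGL_mem_group chevG2 memG2 _ _, e1⟩
        (ConjG.trans ⟨_, nGL_mem_group' 1, e2⟩ (torus11 s₅ h5))
  · right
    have e1 : xGL chevG2 memG2 7 (s₅ / s₄) * (xGL chevG2 memG2 9 s₄ * xGL chevG2 memG2 10 s₅
        * xGL chevG2 memG2 11 s₆) * (xGL chevG2 memG2 7 (s₅ / s₄))⁻¹
        = xGL chevG2 memG2 9 s₄ * xGL chevG2 memG2 11 s₆ := by
      rw [conj_mul3, conj_x7_x9, conj_x7_x11, conj_x_triv 7 10 (by decide) (by decide) (by decide)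
        (by decide) (by decide +kernel), mul_assoc (xGL chevG2 memG2 9 s₄), ← xGL_add_g2,
        three_eq_one, one_mul, div_mul_cancel₀ _ h4, add_self', xGL_zero_g2, mul_one]
    have e2 : xGL chevG2 memG2 8 (s₆ / s₄) * (xGL chevG2 memG2 9 s₄ * xGL chevG2 memG2 11 s₆)
        * (xGL chevG2 memG2 8 (s₆ / s₄))⁻¹ = xGL chevG2 memG2 9 s₄ := by
      rw [conj_mul2, conj_x8_x9, conj_x_triv 8 11 (by decide) (by decide) (by decide)
        (by decide) (by decide +kernel), mul_assoc, ← xGL_add_g2,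
        three_eq_one, one_mul, div_mul_cancel₀ _ h4, add_self', xGL_zero_g2, mul_one]
    exact ConjG.trans ⟨_, xGL_mem_group chevG2 memG2 _ _, e1⟩
      (ConjG.trans ⟨_, xGL_mem_group chevG2 memG2 _ _, e2⟩ (torus9 s₄ h4))

theorem sq8 (t s₄ s₅ s₆ : F) :
    (xGL chevG2 memG2 8 t * (xGL chevG2 memG2 9 s₄ * xGL chevG2 memG2 10 s₅ * xGL chevG2 memG2 11 s₆))
      * (xGL chevG2 memG2 8 t * (xGL chevG2 memG2 9 s₄ * xGL chevG2 memG2 10 s₅
        * xGL chevG2 memG2 11 s₆)) = xGL chevG2 memG2 11 (t * s₄) := by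
  rw [sq_aw _ _ (xGL_inv2 8 t), conj8_V9, V9_mul, add_self', add_self', xGL_zero_g2, xGL_zero_g2,
    one_mul, one_mul]
  congr 1
  rw [three_eq_one]
  linear_combination s₆ * two_eq_zero' (F := F)

theorem sq7 (t s₄ s₅ s₆ : F) :
    (xGL chevG2 memG2 7 t * (xGL chevG2 memG2 9 s₄ * xGL chevG2 memG2 10 s₅ * xGL chevG2 memG2 11 s₆))
      * (xGL chevG2 memG2 7 t * (xGL chevG2 memG2 9 s₄ * xGL chevG2 memG2 10 s₅
        * xGL chevG2 memG2 11 s₆)) = xGL chevG2 memG2 10 (t * s₄) := by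
  rw [sq_aw _ _ (xGL_inv2 7 t), conj7_V9, V9_mul, add_self', add_self', xGL_zero_g2, xGL_zero_g2,
    one_mul, mul_one]
  congr 1
  rw [three_eq_one]
  linear_combination s₅ * two_eq_zero' (F := F)

theorem sq6 (t s₄ s₅ s₆ : F) :
    (xGL chevG2 memG2 6 t * (xGL chevG2 memG2 9 s₄ * xGL chevG2 memG2 10 s₅ * xGL chevG2 memG2 11 s₆))
      * (xGL chevG2 memG2 6 t * (xGL chevG2 memG2 9 s₄ * xGL chevG2 memG2 10 s₅
        * xGL chevG2 memG2 11 s₆)) = xGL chevG2 memG2 11 (t * s₅) := by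
  rw [sq_aw _ _ (xGL_inv2 6 t), conj6_V9, V9_mul, add_self', add_self', xGL_zero_g2, xGL_zero_g2,
    one_mul, one_mul]
  congr 1
  linear_combination s₆ * two_eq_zero' (F := F)

theorem exists_sqrt [Finite F] (c : F) : ∃ v : F, v ^ 2 = c := by
  have hinj : Function.Injective (fun x : F => x ^ 2) := by
    intro x y h
    have h' : x ^ 2 = y ^ 2 := h
    have h0 : (x - y) ^ 2 = 0 := by
      linear_combination h' + (y ^ 2 - x * y) * two_eq_zero' (F := F)
    have := pow_eq_zero_iff (two_ne_zero) |>.1 h0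
    linear_combination this
  exact Finite.surjective_of_injective hinj c

/-- the involutions in `X_{a+b} V9` -/
theorem claimB [Finite F] (s₃ s₄ s₅ s₆ : F) (u : GL chevG2.Idx F)
    (hu : u = xGL chevG2 memG2 8 s₃ * (xGL chevG2 memG2 9 s₄ * xGL chevG2 memG2 10 s₅
      * xGL chevG2 memG2 11 s₆)) (hsq : u * u = 1) (hne : u ≠ 1) : IsRootInv u := by
  rw [hu, sq8] at hsq
  have h34 := xGL_eq_one 11 (by decide) _ hsq
  by_cases h3 : s₃ = 0
  · rw [hu, h3, xGL_zero_g2, one_mul]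
    apply claimA
    rintro ⟨rfl, rfl, rfl⟩
    apply hne
    rw [hu, h3, xGL_zero_g2, xGL_zero_g2, xGL_zero_g2, xGL_zero_g2]
    group
  · have h4 : s₄ = 0 := by
      rcases mul_eq_zero.1 h34 with h | h
      · exact absurd h h3
      · exact h
    right
    obtain ⟨v, hv⟩ := exists_sqrt (s₅ / s₃)
    have hv' : v ^ 2 * s₃ = s₅ := by rw [hv, div_mul_cancel₀ _ h3]
    have e1 : xGL chevG2 memG2 7 v * u * (xGL chevG2 memG2 7 v)⁻¹
        = xGL chevG2 memG2 8 s₃ * xGL chevG2 memG2 11 (v * s₃ ^ 2 + s₆) := by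
      rw [hu, h4, xGL_zero_g2, one_mul, conj_mul2, conj_x7_x8, conj_mul2,
        conj_x_triv 7 10 (by decide) (by decide) (by decide) (by decide) (by decide +kernel),
        conj_x7_x11]
      have e9 : (-2 * v * s₃ : F) = 0 := by linear_combination (-v * s₃) * two_eq_zero' (F := F)
      have e10 : (-3 * v ^ 2 * s₃ : F) = s₅ := by
        rw [← hv']
        linear_combination (-2 * v ^ 2 * s₃) * two_eq_zero' (F := F)
      have e11 : (3 * v * s₃ ^ 2 : F) = v * s₃ ^ 2 := by rw [three_eq_one, one_mul]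
      rw [e9, e10, e11, xGL_zero_g2, one_mul, mul_assoc (xGL chevG2 memG2 8 s₃)]
      congr 1
      calc xGL chevG2 memG2 10 s₅ * xGL chevG2 memG2 11 (v * s₃ ^ 2)
            * (xGL chevG2 memG2 10 s₅ * xGL chevG2 memG2 11 s₆)
          = xGL chevG2 memG2 10 s₅ * (xGL chevG2 memG2 11 (v * s₃ ^ 2) * xGL chevG2 memG2 10 s₅)
            * xGL chevG2 memG2 11 s₆ := by group
        _ = (xGL chevG2 memG2 10 s₅ * xGL chevG2 memG2 10 s₅)
            * (xGL chevG2 memG2 11 (v * s₃ ^ 2) * xGL chevG2 memG2 11 s₆) := by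
          rw [← x10_comm_x11]; group
        _ = _ := by rw [xGL_sq, one_mul, ← xGL_add_g2]
    set s₆' := v * s₃ ^ 2 + s₆ with hs₆'
    have e2 : xGL chevG2 memG2 9 (s₆' / s₃) * (xGL chevG2 memG2 8 s₃ * xGL chevG2 memG2 11 s₆')
        * (xGL chevG2 memG2 9 (s₆' / s₃))⁻¹ = xGL chevG2 memG2 8 s₃ := by
      rw [conj_mul2, conj_x9_x8, conj_x_triv 9 11 (by decide) (by decide) (by decide) (by decide)
        (by decide +kernel), mul_assoc, ← xGL_add_g2]
      have : (-3 * (s₆' / s₃) * s₃ + s₆' : F) = 0 := by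
        rw [mul_assoc, div_mul_cancel₀ _ h3]
        linear_combination (-s₆') * two_eq_zero' (F := F)
      rw [this, xGL_zero_g2, mul_one]
    have e3 : nGL chevG2 memG2 0 * xGL chevG2 memG2 8 s₃ * (nGL chevG2 memG2 0)⁻¹
        = xGL chevG2 memG2 9 s₃ := by
      rw [conj_n 0 (by decide) 8 (by decide), refl_vals.2.2.2.1]
    exact ConjG.trans ⟨_, xGL_mem_group chevG2 memG2 _ _, e1⟩
      (ConjG.trans ⟨_, xGL_mem_group chevG2 memG2 _ _, e2⟩
        (ConjG.trans ⟨_, nGL_mem_group' 0, e3⟩ (torus9 s₃ h3)))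

end char2

theorem mem_of_piV_eq_one (g : GL chevG2.Idx F) (hg : g ∈ chevG2.borelSubgroup F)
    (h : piV g = 1) : g ∈ V9 F := by
  rw [piV_of_mem g hg, QuotientGroup.eq_one_iff] at h
  exact h

theorem x8_not_mem_V9 [Fintype F] (c : F) (hc : c ≠ 0) : xGL chevG2 memG2 8 c ∉ V9 F := by
  intro hmem
  obtain ⟨c', d', e', ht⟩ := V9_rep 10 11 (Or.inl ⟨rfl, rfl⟩) _ hmem
  set t₁ : ℕ → F := fun r => if r = 8 then c else 0 with ht₁
  set t₂ : ℕ → F := fun r => if r = 9 then c' else if r = 10 then d' else if r = 11 then e' else 0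
    with ht₂
  have hu := prodL_unique chevG2 memG2 (posL chevG2) (posL_good chevG2 memG2) (posL_nodup _)
    (mem_posL chevG2 memG2) (posL_length _) t₁ t₂ (by
      show prodL chevG2 memG2 [6, 7, 8, 9, 10, 11] t₁ = prodL chevG2 memG2 [6, 7, 8, 9, 10, 11] t₂
      simp only [prodL_cons, prodL_nil, mul_one]
      simp only [ht₁, ht₂]
      norm_num [xGL_zero_g2]
      rw [ht, mul_assoc]) 8 (by decide)
  simp only [ht₁, ht₂] at hu
  norm_num at hu
  exact hc hu

theorem ConjG.sq_eq_one {u v : GL chevG2.Idx F} (h : ConjG u v) (hu : u * u = 1) : v * v = 1 := by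
  obtain ⟨a, -, rfl⟩ := h
  calc a * u * a⁻¹ * (a * u * a⁻¹) = a * (u * u) * a⁻¹ := by group
    _ = 1 := by rw [hu]; group

theorem ConjG.ne_one {u v : GL chevG2.Idx F} (h : ConjG u v) (hu : u ≠ 1) : v ≠ 1 := by
  obtain ⟨a, -, rfl⟩ := h
  intro h1
  apply hu
  calc u = a⁻¹ * (a * u * a⁻¹) * a := by group
    _ = 1 := by rw [h1]; group

section char2

variable [CharP F 2]

/-- the involutions of `U` -/
theorem claimC [Fintype F] (t₆ t₇ t₈ : F) (w u : GL chevG2.Idx F) (hw : w ∈ V9 F)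
    (hu : u = xGL chevG2 memG2 6 t₆ * (xGL chevG2 memG2 7 t₇ * (xGL chevG2 memG2 8 t₈ * w)))
    (hsq : u * u = 1) (hne : u ≠ 1) : IsRootInv u := by
  have hwB : w ∈ chevG2.borelSubgroup F := pos_le_borel chevG2 (V9_le_pos hw)
  have m6 := fun t : F => xB_mem 6 (by norm_num) t
  have m7 := fun t : F => xB_mem 7 (by norm_num) t
  have m8 := fun t : F => xB_mem 8 (by norm_num) t
  have huB : u ∈ chevG2.borelSubgroup F := by
    rw [hu]
    exact mul_mem (m6 _) (mul_mem (m7 _) (mul_mem (m8 _) hwB))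
  have hpu : piV u = piV (xGL chevG2 memG2 6 t₆) * (piV (xGL chevG2 memG2 7 t₇)
      * piV (xGL chevG2 memG2 8 t₈)) := by
    rw [hu, piV_mul _ _ (m6 _) (mul_mem (m7 _) (mul_mem (m8 _) hwB)),
      piV_mul _ _ (m7 _) (mul_mem (m8 _) hwB), piV_mul _ _ (m8 _) hwB, piV_eq_one w hw, mul_one]
  -- `t₆ t₇ = 0`
  have h67 : t₇ * t₆ = 0 := by
    set A := piV (xGL chevG2 memG2 6 t₆) with hA
    set B := piV (xGL chevG2 memG2 7 t₇) with hB
    set C := piV (xGL chevG2 memG2 8 t₈) with hC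
    set E := piV (xGL chevG2 memG2 8 (t₇ * t₆)) with hE
    have hAA : A * A = 1 := piV_sq 6 (by norm_num) t₆
    have hBB : B * B = 1 := piV_sq 7 (by norm_num) t₇
    have hCC : C * C = 1 := piV_sq 8 (by norm_num) t₈
    have hCA : C * A = A * C := by
      have h := rel_68 t₆ t₈
      calc C * A = (A * C * A) * A := by rw [h]
        _ = A * C * (A * A) := by group
        _ = A * C := by rw [hAA, mul_one]
    have hCB : C * B = B * C := by
      have h := rel_78 t₇ t₈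
      calc C * B = (B * C * B) * B := by rw [h]
        _ = B * C * (B * B) := by group
        _ = B * C := by rw [hBB, mul_one]
    have hBA : B * A = A * E * B := by
      have h := rel_76 t₇ t₆
      calc B * A = B * A * (B * B) := by rw [hBB, mul_one]
        _ = (B * A * B) * B := by group
        _ = A * E * B := by rw [h]
    have h1 : piV (u * u) = E := by
      rw [piV_mul _ _ huB huB, hpu]
      calc A * (B * C) * (A * (B * C)) = A * B * (C * A) * (B * C) := by group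
        _ = A * (B * A) * (C * B) * C := by rw [hCA]; group
        _ = (A * A) * E * (B * B) * (C * C) := by rw [hBA, hCB]; group
        _ = E := by rw [hAA, hBB, hCC]; group
    rw [hsq, piV_eq_one _ (one_mem _)] at h1
    by_contra hne0
    exact x8_not_mem_V9 _ hne0 (mem_of_piV_eq_one _ (m8 _) h1.symm)
  by_cases h7 : t₇ = 0
  · by_cases h6 : t₆ = 0
    · -- `u ∈ X_{a+b} V9`
      obtain ⟨s₄, s₅, s₆, rfl⟩ := V9_rep 10 11 (Or.inl ⟨rfl, rfl⟩) w hw
      apply claimB t₈ s₄ s₅ s₆ u _ hsq hne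
      rw [hu, h6, h7, xGL_zero_g2, xGL_zero_g2, one_mul, one_mul]
    · -- conjugate by `x_a(v)`
      set v := t₈ / t₆ with hv
      set u₁ := xGL chevG2 memG2 7 v * u * (xGL chevG2 memG2 7 v)⁻¹ with hu₁
      have hc1 : ConjG u u₁ := conjG_x 7 v u
      have hu₁B : u₁ ∈ chevG2.borelSubgroup F :=
        mul_mem (mul_mem (m7 _) huB) (inv_mem (m7 _))
      have hp1 : piV u₁ = piV (xGL chevG2 memG2 6 t₆) := by
        rw [hu₁, xGL_inv2, piV_mul _ _ (mul_mem (m7 _) huB) (m7 _), piV_mul _ _ (m7 _) huB, hpu, h7,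
          xGL_zero_g2, piV_eq_one _ (one_mem _), one_mul]
        set A := piV (xGL chevG2 memG2 6 t₆) with hA
        set B := piV (xGL chevG2 memG2 7 v) with hB
        set C := piV (xGL chevG2 memG2 8 t₈) with hC
        have hBB : B * B = 1 := piV_sq 7 (by norm_num) v
        have h1 := rel_76 v t₆
        have h2 := rel_78 v t₈
        calc B * (A * C) * B = (B * A * B) * (B * C * B) := by
              calc B * (A * C) * B = B * A * 1 * C * B := by group
                _ = B * A * (B * B) * C * B := by rw [hBB]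
                _ = _ := by group
          _ = A * piV (xGL chevG2 memG2 8 (v * t₆)) * C := by rw [h1, h2]
          _ = A := by
            rw [mul_assoc, ← piV_add 8 (by norm_num), hv, div_mul_cancel₀ _ h6, add_self',
              xGL_zero_g2, piV_eq_one _ (one_mem _), mul_one]
      have hw1 := piV_eq _ _ (m6 t₆) hu₁B hp1.symm
      obtain ⟨s₄, s₅, s₆, hrep⟩ := V9_rep 10 11 (Or.inl ⟨rfl, rfl⟩) _ hw1
      have e1 : u₁ = xGL chevG2 memG2 6 t₆ * (xGL chevG2 memG2 9 s₄ * xGL chevG2 memG2 10 s₅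
          * xGL chevG2 memG2 11 s₆) := by
        rw [← hrep]; group
      have hsq1 := hc1.sq_eq_one hsq
      rw [e1, sq6] at hsq1
      have h5 : s₅ = 0 := by
        rcases mul_eq_zero.1 (xGL_eq_one 11 (by decide) _ hsq1) with h | h
        · exact absurd h h6
        · exact h
      -- conjugate by `n_a`
      set u₂ := nGL chevG2 memG2 0 * u₁ * (nGL chevG2 memG2 0)⁻¹ with hu₂
      have hc2 : ConjG u₁ u₂ := ⟨_, nGL_mem_group' 0, rfl⟩
      have e2 : u₂ = xGL chevG2 memG2 8 s₄ * (xGL chevG2 memG2 9 0 * xGL chevG2 memG2 10 t₆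
          * xGL chevG2 memG2 11 s₆) := by
        rw [hu₂, e1, h5, xGL_zero_g2, mul_one, conj_mul2, conj_mul2,
          conj_n 0 (by decide) 6 (by decide), conj_n 0 (by decide) 9 (by decide),
          conj_n 0 (by decide) 11 (by decide), refl_vals.2.2.2.2.1, refl_vals.2.2.2.2.2.1,
          refl_vals.2.2.2.2.2.2, xGL_zero_g2, one_mul]
        have hcomm : xGL chevG2 memG2 10 t₆ * xGL chevG2 memG2 8 s₄
            = xGL chevG2 memG2 8 s₄ * xGL chevG2 memG2 10 t₆ := by
          have := conj_x_triv 10 8 (by decide) (by decide) (by decide) (by decide)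
            (by decide +kernel) t₆ s₄
          rw [mul_inv_eq_iff_eq_mul] at this
          exact this
        rw [← mul_assoc, hcomm]
        group
      have hc := hc1.trans hc2
      exact IsRootInv.of_conj hc (claimB s₄ 0 t₆ s₆ u₂ e2 (hc.sq_eq_one hsq) (hc.ne_one hne))
  · have h6 : t₆ = 0 := by
      rcases mul_eq_zero.1 h67 with h | h
      · exact absurd h h7
      · exact h
    -- conjugate by `x_b(v)`
    set v := t₈ / t₇ with hv
    set u₁ := xGL chevG2 memG2 6 v * u * (xGL chevG2 memG2 6 v)⁻¹ with hu₁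
    have hc1 : ConjG u u₁ := conjG_x 6 v u
    have hu₁B : u₁ ∈ chevG2.borelSubgroup F :=
      mul_mem (mul_mem (m6 _) huB) (inv_mem (m6 _))
    have hp1 : piV u₁ = piV (xGL chevG2 memG2 7 t₇) := by
      rw [hu₁, xGL_inv2, piV_mul _ _ (mul_mem (m6 _) huB) (m6 _), piV_mul _ _ (m6 _) huB, hpu, h6,
        xGL_zero_g2, piV_eq_one _ (one_mem _), one_mul]
      set A := piV (xGL chevG2 memG2 6 v) with hA
      set B := piV (xGL chevG2 memG2 7 t₇) with hB
      set C := piV (xGL chevG2 memG2 8 t₈) with hC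
      have hAA : A * A = 1 := piV_sq 6 (by norm_num) v
      have h1 := rel_67 v t₇
      have h2 := rel_68 v t₈
      calc A * (B * C) * A = (A * B * A) * (A * C * A) := by
            calc A * (B * C) * A = A * B * 1 * C * A := by group
              _ = A * B * (A * A) * C * A := by rw [hAA]
              _ = _ := by group
        _ = B * piV (xGL chevG2 memG2 8 (v * t₇)) * C := by rw [h1, h2]
        _ = B := by
          rw [mul_assoc, ← piV_add 8 (by norm_num), hv, div_mul_cancel₀ _ h7, add_self',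
            xGL_zero_g2, piV_eq_one _ (one_mem _), mul_one]
    have hw1 := piV_eq _ _ (m7 t₇) hu₁B hp1.symm
    obtain ⟨s₄, s₅, s₆, hrep⟩ := V9_rep 10 11 (Or.inl ⟨rfl, rfl⟩) _ hw1
    have e1 : u₁ = xGL chevG2 memG2 7 t₇ * (xGL chevG2 memG2 9 s₄ * xGL chevG2 memG2 10 s₅
        * xGL chevG2 memG2 11 s₆) := by
      rw [← hrep]; group
    have hsq1 := hc1.sq_eq_one hsq
    rw [e1, sq7] at hsq1
    have h4 : s₄ = 0 := by
      rcases mul_eq_zero.1 (xGL_eq_one 10 (by decide) _ hsq1) with h | h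
      · exact absurd h h7
      · exact h
    -- conjugate by `n_b`
    set u₂ := nGL chevG2 memG2 1 * u₁ * (nGL chevG2 memG2 1)⁻¹ with hu₂
    have hc2 : ConjG u₁ u₂ := ⟨_, nGL_mem_group' 1, rfl⟩
    have e2 : u₂ = xGL chevG2 memG2 8 t₇ * (xGL chevG2 memG2 9 0 * xGL chevG2 memG2 10 s₆
        * xGL chevG2 memG2 11 s₅) := by
      rw [hu₂, e1, h4, xGL_zero_g2, one_mul, conj_mul2, conj_mul2,
        conj_n 1 (by decide) 7 (by decide), conj_n 1 (by decide) 10 (by decide),
        conj_n 1 (by decide) 11 (by decide), refl_vals.1, refl_vals.2.1, refl_vals.2.2.1,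
        one_mul, x10_comm_x11]
    have hc := hc1.trans hc2
    exact IsRootInv.of_conj hc (claimB t₇ 0 s₆ s₅ u₂ e2 (hc.sq_eq_one hsq) (hc.ne_one hne))

end char2

end Cfsg.Agent.Lib.Helper5.G2Cent
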