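import Mathlib
import Cfsg.Prelude.Def_ChevStructure
import Cfsg.Prelude.Def_LieChev
import Cfsg.Agent.Lib.Helper5.G2Cent.Invol2
import Cfsg.Agent.Lib.Helper5.ChevSylow
import Cfsg.Agent.Lib.Helper5.RootCent.Check
import Cfsg.Agent.Lib.Helper5.ChevUCard
import Cfsg.Agent.Lib.Helper4.SLCard

set_option autoImplicit false

/-!
The classes of involutions of `G₂(F)`, `F` finite of characteristic two.
-/

namespace Cfsg.Agent.Lib.Helper5.G2Cent

open Cfsg Cfsg.Lie Cfsg.Agent.Lib.Helper5.ChevSym Cfsg.Agent.Lib.Helper5.ChevStruct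
  Cfsg.Agent.Lib.Helper5.FieldFix

open scoped Pointwise

variable {F : Type*} [Field F] [Fintype F] [CharP F 2]

/-- an involution is conjugate into `U` -/
theorem exists_conj_mem_pos (g : GL chevG2.Idx F) (hg : g ∈ chevG2.group F)
    (hord : orderOf g = 2) : ∃ h ∈ chevG2.group F, h * g * h⁻¹ ∈ chevG2.posUnipotent F := by
  classical
  have : Fact (Nat.Prime 2) := ⟨Nat.prime_two⟩
  obtain ⟨P, hP⟩ := pos_isSylow (F := F) 2 chevG2 memG2
  set x : ↥(chevG2.group F) := ⟨g, hg⟩ with hx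
  have hox : orderOf x = 2 := by
    rw [← hord]
    exact Subgroup.orderOf_mk g hg
  have hpg : IsPGroup 2 (Subgroup.zpowers x) := by
    apply IsPGroup.of_card (n := 1)
    rw [Nat.card_zpowers, hox, pow_one]
  obtain ⟨Q, hQ⟩ := hpg.exists_le_sylow
  obtain ⟨h, hh⟩ := MulAction.exists_smul_eq ↥(chevG2.group F) Q P
  have h2 : ((h • Q : Sylow 2 ↥(chevG2.group F)) : Subgroup ↥(chevG2.group F))
      = MulAut.conj h • (Q : Subgroup ↥(chevG2.group F)) := Sylow.coe_subgroup_smul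
  have hxQ : x ∈ (Q : Subgroup ↥(chevG2.group F)) := hQ (Subgroup.mem_zpowers x)
  have h3 : MulAut.conj h • x ∈ MulAut.conj h • (Q : Subgroup ↥(chevG2.group F)) :=
    Subgroup.smul_mem_pointwise_smul _ _ _ hxQ
  rw [← h2, hh, hP] at h3
  refine ⟨h, h.2, ?_⟩
  exact h3

/-- every involution is conjugate to a root involution -/
theorem invol_isRootInv (g : GL chevG2.Idx F) (hg : g ∈ chevG2.group F)
    (hord : orderOf g = 2) : IsRootInv g := by
  obtain ⟨h, hh, hU⟩ := exists_conj_mem_pos g hg hord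
  have hc : ConjG g (h * g * h⁻¹) := ⟨h, hh, rfl⟩
  apply IsRootInv.of_conj hc
  have hg1 : g ≠ 1 := by
    rintro rfl
    rw [orderOf_one] at hord
    omega
  have hg2 : g * g = 1 := by
    rw [← pow_two, ← hord]
    exact pow_orderOf_eq_one g
  rw [← rootSetSub_list_eq_pos chevG2 (posL chevG2) (mem_posL chevG2 memG2)] at hU
  obtain ⟨t, ht⟩ := exists_prodL chevG2 memG2 (posL chevG2) (posL_good chevG2 memG2) (posL_nodup _)
    _ hU
  have ht' : h * g * h⁻¹ = prodL chevG2 memG2 [6, 7, 8, 9, 10, 11] t := ht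
  rw [prodL_cons, prodL_cons, prodL_cons, prodL_cons, prodL_cons, prodL_cons, prodL_nil,
    mul_one] at ht'
  apply claimC (t 6) (t 7) (t 8) (xGL chevG2 memG2 9 (t 9) * (xGL chevG2 memG2 10 (t 10)
    * xGL chevG2 memG2 11 (t 11))) _ _ ht' (hc.sq_eq_one hg2) (hc.ne_one hg1)
  apply mul_mem (x9_mem_V9 _)
  exact mul_mem (xGL_mem_rootSetSub chevG2 memG2 _ 10 (by simp) _)
    (xGL_mem_rootSetSub chevG2 memG2 _ 11 (by simp) _)


omit [Fintype F] [CharP F 2] in
theorem K0_eq_sup : K0 F = chevG2.rootSubgroup F 6 ⊔ chevG2.rootSubgroup F 5 := by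
  apply le_antisymm
  · unfold K0 rootSetSub
    rw [Subgroup.closure_le]
    rintro g ⟨s, t, hs, hg⟩
    simp only [Set.mem_ofPred_eq, List.mem_cons, List.not_mem_nil, or_false] at hs
    rcases hs with rfl | rfl
    · exact Subgroup.mem_sup_left (Subgroup.subset_closure ⟨t, hg⟩)
    · exact Subgroup.mem_sup_right (Subgroup.subset_closure ⟨t, hg⟩)
  · apply sup_le
    · unfold ChevalleyDatum.rootSubgroup K0 rootSetSub
      apply Subgroup.closure_mono
      rintro g ⟨t, hg⟩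
      exact ⟨6, t, by simp, hg⟩
    · unfold ChevalleyDatum.rootSubgroup K0 rootSetSub
      apply Subgroup.closure_mono
      rintro g ⟨t, hg⟩
      exact ⟨5, t, by simp, hg⟩

omit [CharP F 2] in
theorem card_K0_le : Nat.card (K0 F) ≤ Fintype.card F * (Fintype.card F ^ 2 - 1) := by
  obtain ⟨φ, hφ, -⟩ := sl2_hom_onto_root_pair (F := F) chevG2 memG2 6 (by decide)
  have h5 : chevG2.neg 6 = 5 := by decide
  rw [h5, ← K0_eq_sup] at hφ
  rw [← Cfsg.Agent.Lib.Helper4.card_SL2 (F := F), ← hφ]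
  exact Nat.card_le_card_of_surjective _ φ.rangeRestrict_surjective

omit [CharP F 2] in
theorem card_V9_le : Nat.card (V9 F) ≤ Fintype.card F ^ 3 := by
  have hsurj : Function.Surjective (fun p : F × F × F =>
      (⟨xGL chevG2 memG2 9 p.1 * xGL chevG2 memG2 10 p.2.1 * xGL chevG2 memG2 11 p.2.2,
        mul_mem (mul_mem (x9_mem_V9 _) (xGL_mem_rootSetSub chevG2 memG2 _ 10 (by simp) _))
          (xGL_mem_rootSetSub chevG2 memG2 _ 11 (by simp) _)⟩ : ↥(V9 F))) := by
    intro y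
    obtain ⟨c, d, e, h⟩ := V9_rep 10 11 (Or.inl ⟨rfl, rfl⟩) y.1 y.2
    exact ⟨(c, d, e), Subtype.ext h.symm⟩
  have := Nat.card_le_card_of_surjective _ hsurj
  simp only [Nat.card_prod, Nat.card_eq_fintype_card (α := F)] at this
  calc Nat.card (V9 F) ≤ _ := this
    _ = Fintype.card F ^ 3 := by ring

omit [Fintype F] [CharP F 2] in
theorem K0_le_normalizer_V9 :
    K0 F ≤ Subgroup.normalizer (V9 F : Set (GL chevG2.Idx F)) := by
  rw [K0_eq_sup]
  apply sup_le
  · have key : ∀ s ∈ [9, 10, 11], s < chevG2.nroots ∧ s ≠ 6 ∧ s ≠ chevG2.neg 6 ∧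
        ∀ c ∈ chevG2.commTerms 6 s, c.1 ∈ [9, 10, 11] := by decide +kernel
    exact rootSubgroup_le_normalizer_rootSetSub chevG2 memG2 _ 6 (by decide)
      (fun s hs => key s hs)
  · have key : ∀ s ∈ [9, 10, 11], s < chevG2.nroots ∧ s ≠ 5 ∧ s ≠ chevG2.neg 5 ∧
        ∀ c ∈ chevG2.commTerms 5 s, c.1 ∈ [9, 10, 11] := by decide +kernel
    exact rootSubgroup_le_normalizer_rootSetSub chevG2 memG2 _ 5 (by decide)
      (fun s hs => key s hs)

omit [CharP F 2] in
theorem card_C0_le : Nat.card (C0 F) ≤ Fintype.card F ^ 3 * (Fintype.card F * (Fintype.card F ^ 2 - 1)) := by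
  have hle : C0 F ≤ V9 F ⊔ K0 F := by
    unfold C0 rootSetSub
    rw [Subgroup.closure_le]
    rintro g ⟨s, t, hs, hg⟩
    have eg : g = xGL chevG2 memG2 s t := Units.ext hg
    rw [eg]
    simp only [Set.mem_ofPred_eq, List.mem_cons, List.not_mem_nil, or_false] at hs
    rcases hs with rfl | rfl | rfl | rfl | rfl
    · exact Subgroup.mem_sup_left (xGL_mem_rootSetSub chevG2 memG2 _ 9 (by simp) t)
    · exact Subgroup.mem_sup_left (xGL_mem_rootSetSub chevG2 memG2 _ 10 (by simp) t)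
    · exact Subgroup.mem_sup_left (xGL_mem_rootSetSub chevG2 memG2 _ 11 (by simp) t)
    · exact Subgroup.mem_sup_right (xGL_mem_rootSetSub chevG2 memG2 _ 6 (by simp) t)
    · exact Subgroup.mem_sup_right (xGL_mem_rootSetSub chevG2 memG2 _ 5 (by simp) t)
  have h1 : Nat.card (C0 F) ≤ Nat.card ↥(V9 F ⊔ K0 F) := Subgroup.card_le_of_le hle
  have h2 : Nat.card ↥(V9 F ⊔ K0 F) = Nat.card ((V9 F : Set (GL chevG2.Idx F)) * (K0 F : Set _) :
      Set (GL chevG2.Idx F)) := by
    rw [← Subgroup.coe_mul_of_right_le_normalizer_left _ _ K0_le_normalizer_V9]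
    rfl
  have h3 := Set.natCard_mul_le (s := (V9 F : Set (GL chevG2.Idx F))) (t := (K0 F : Set _))
  calc Nat.card (C0 F) ≤ _ := h1
    _ = _ := h2
    _ ≤ _ := h3
    _ ≤ _ := Nat.mul_le_mul card_V9_le card_K0_le

/-- the long and the short root involutions are not conjugate -/
theorem not_conj_11_9 (h : GL chevG2.Idx F) (hh : h ∈ chevG2.group F)
    (e : h * xGL chevG2 memG2 11 1 * h⁻¹ = xGL chevG2 memG2 9 1) : False := by
  -- `h U h⁻¹ ≤ C0`
  have hU : ∀ u ∈ chevG2.posUnipotent F, h * u * h⁻¹ ∈ C0 F := by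
    intro u hu
    rw [← cent_short (xGL chevG2 memG2 9 1) (xGL_val chevG2 memG2 9 1)]
    have hG : h * u * h⁻¹ ∈ chevG2.group F :=
      mul_mem (mul_mem hh (pos_le_group chevG2 memG2 hu)) (inv_mem hh)
    refine Subgroup.mem_inf.2 ⟨hG, ?_⟩
    rw [Subgroup.mem_centralizer_iff]
    intro y hy
    rw [Set.mem_singleton_iff.1 hy, ← e]
    have hcomm : u * xGL chevG2 memG2 11 1 = xGL chevG2 memG2 11 1 * u := by
      have := RootCent.Q_comm chevG2 memG2 11 1 [4]
        (RootCent.centHyp_of_check chevG2 2 11 1 [4] (by decide +kernel)) u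
        (RootCent.pos_le_Q chevG2 memG2 11 1 [4]
          (RootCent.centHyp_of_check chevG2 2 11 1 [4] (by decide +kernel)) hu) (1 : F)
      exact this.eq
    calc h * xGL chevG2 memG2 11 1 * h⁻¹ * (h * u * h⁻¹)
        = h * (xGL chevG2 memG2 11 1 * u) * h⁻¹ := by group
      _ = h * (u * xGL chevG2 memG2 11 1) * h⁻¹ := by rw [hcomm]
      _ = _ := by group
  have hinj : Function.Injective (fun u : ↥(chevG2.posUnipotent F) =>
      (⟨h * u.1 * h⁻¹, hU u.1 u.2⟩ : ↥(C0 F))) := by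
    intro u v huv
    have := congrArg Subtype.val huv
    simp only [mul_left_inj, mul_right_inj] at this
    exact Subtype.ext this
  have hcard := Nat.card_le_card_of_injective _ hinj
  rw [card_posUnipotent chevG2 memG2] at hcard
  have h6 : chevG2.nroots / 2 = 6 := by decide
  rw [h6] at hcard
  have hle := hcard.trans card_C0_le
  have hq : 2 ≤ Fintype.card F := Fintype.one_lt_card
  set q := Fintype.card F with hqdef
  have h1 : q ^ 2 - 1 < q ^ 2 := by
    have : 0 < q ^ 2 := by positivity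
    omega
  have h2 : q ^ 3 * (q * (q ^ 2 - 1)) < q ^ 3 * (q * q ^ 2) := by
    apply Nat.mul_lt_mul_of_pos_left
    · exact Nat.mul_lt_mul_of_pos_left h1 (by omega)
    · positivity
  have h3 : q ^ 3 * (q * q ^ 2) = q ^ 6 := by ring
  omega

end Cfsg.Agent.Lib.Helper5.G2Cent
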